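import Cfsg.Agent.Lib.Spor.HSSylow.Recog.Local
import Cfsg.Agent.Lib.Spor.HSSylow.Cert.A00

/-!
# The centralizer of the central involution

Without an odd core it permutes the fifteen lines of `R` transitively, the Sylow subgroup fixes the first line,
and modulo `R` it is the symmetric group of degree five.
-/

set_option autoImplicit false
set_option linter.unusedSectionVars false
set_option linter.style.haveILetI false
set_option maxRecDepth 100000

namespace CfsgLib.Spor.HSSylow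

open Subgroup

theorem linePts_facts : linePts.Nodup ∧ linePts.length = 15 ∧ (linePts.all fun p => Nat.beq (p % 4) 0) = true ∧
    ((List.range 15).all fun i => (lineL i).all fun x =>
      listCy.contains x || listCy.any fun c => Nat.beq (mul (linePts.getD i 0) c) x) = true ∧
    ((List.range 15).all fun i => (lineL i).all fun x =>
      listCy.contains x || Nat.beq (x - x % 4) (linePts.getD i 0)) = true := by
  decide +kernel

theorem line_closed (i : Fin 15) : closedB (lineL i) = true := by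
  have h := recog_line_facts.1
  simp only [List.all_eq_true, List.mem_range, Bool.and_eq_true] at h
  exact (h i i.2).1.1

theorem line_sub_R (i : Fin 15) {x : ℕ} (hx : x ∈ lineL i) : x ∈ listR := by
  have h := recog_line_facts.1
  simp only [List.all_eq_true, List.mem_range, Bool.and_eq_true, List.contains_iff_mem] at h
  exact (h i i.2).1.2 x hx

theorem pt_mem_line (i : Fin 15) : linePts.getD i 0 ∈ lineL i := by simp [lineL]

theorem pt_not_Cy (i : Fin 15) : linePts.getD i 0 ∉ listCy := by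
  have h := recog_line_facts.1
  simp only [List.all_eq_true, List.mem_range, Bool.and_eq_true, Bool.not_eq_true'] at h
  intro hc
  have := (h i i.2).2
  rw [List.contains_iff_mem.2 hc] at this
  exact Bool.false_ne_true this.symm

theorem Cy_sub_line (i : Fin 15) {x : ℕ} (hx : x ∈ listCy) : x ∈ lineL i := by
  simp only [listCy, List.mem_cons, List.not_mem_nil, or_false] at hx
  rcases hx with rfl | rfl | rfl | rfl <;> simp [lineL]

namespace Frame

variable {G : Type*} [Group G] (F : Frame G)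

theorem card_sub {l : List ℕ} (hl : closedB l = true) (hn : l.Nodup) : Nat.card (F.sub l hl) = l.length := by
  have hlt : ∀ a ∈ l, a < 512 := by
    have h := hl
    simp only [closedB, Bool.and_eq_true, List.all_eq_true, Nat.blt_eq] at h
    exact fun a ha => (h.2 a ha).1.1
  have e : Nat.card {a // a ∈ l} = l.length := by
    rw [Nat.subtype_card l.toFinset (fun _ => List.mem_toFinset), List.toFinset_card_of_nodup hn]
  rw [← e]
  refine (Nat.card_eq_of_bijective (fun a : {a // a ∈ l} => (⟨F.f a, a, a.2, rfl⟩ : F.sub l hl))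
    ⟨fun a b h => ?_, fun g => ?_⟩).symm
  · exact Subtype.ext (F.inj (hlt a a.2) (hlt b b.2) (congrArg Subtype.val h))
  · obtain ⟨a, ha, e⟩ := g.2
    exact ⟨⟨a, ha⟩, Subtype.ext e⟩

/-- A line. -/
def line (i : Fin 15) : Subgroup G := F.sub (lineL i) (line_closed i)

theorem line_le_R (i : Fin 15) : F.line i ≤ F.R := by
  rintro _ ⟨a, ha, rfl⟩
  exact ⟨a, line_sub_R i ha, rfl⟩

theorem R_le_T : F.R ≤ (F.T : Subgroup G) := F.sub_le _ _

theorem Cy_le_R : F.Cy ≤ F.R := fun _ ⟨a, ha, e⟩ =>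
  ⟨a, line_sub_R 0 (Cy_sub_line 0 ha), e⟩

theorem pt_mem (i : Fin 15) : F.f (linePts.getD i 0) ∈ F.line i := ⟨_, pt_mem_line i, rfl⟩

theorem mem_Cy_iff {g : G} (hg : g ∈ F.R) : g ∈ F.Cy ↔ ∀ r ∈ F.R, g * r = r * g := by
  constructor
  · rintro ⟨a, ha, rfl⟩ _ ⟨r, hr, rfl⟩
    rw [← recog_R_facts.2.1] at ha
    exact (F.f_comm (mem_centL.1 ha).1 (listR_lt hr)).2 ((mem_centL.1 ha).2 r hr)
  · intro h
    obtain ⟨a, ha, rfl⟩ := hg
    refine ⟨a, ?_, rfl⟩
    rw [← recog_R_facts.2.1]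
    exact mem_centL.2 ⟨listR_lt ha, fun r hr => (F.f_comm (listR_lt ha) (listR_lt hr)).1 (h _ ⟨r, hr, rfl⟩)⟩

theorem pt_not_mem_Cy (i : Fin 15) : F.f (linePts.getD i 0) ∉ F.Cy := by
  rintro ⟨a, ha, e⟩
  refine pt_not_Cy i ?_
  rwa [← F.inj (listR_lt (line_sub_R 0 (Cy_sub_line 0 ha))) (listR_lt (line_sub_R i (pt_mem_line i))) e]

/-- every element of `R` off the centre lies on exactly one line -/
theorem existsUnique_line {g : G} (hg : g ∈ F.R) (hc : g ∉ F.Cy) : ∃! j, g ∈ F.line j := by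
  obtain ⟨a, ha, rfl⟩ := hg
  have h := recog_R_facts.2.2.2.2.1
  simp only [List.all_eq_true, Bool.or_eq_true, List.contains_iff_mem] at h
  have hp := (h a ha).resolve_left fun e => hc ⟨a, e, rfl⟩
  obtain ⟨j, hj, e⟩ := List.getElem_of_mem hp
  have hj' : j < 15 := linePts_facts.2.1 ▸ hj
  have hd : linePts.getD j 0 = a - a % 4 := by rw [← e]; exact List.getD_eq_getElem _ _ hj
  refine ⟨⟨j, hj'⟩, ⟨a, ?_, rfl⟩, fun k hk => ?_⟩
  · simp only [lineL, List.mem_cons, List.not_mem_nil, or_false]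
    rw [hd]; omega
  · obtain ⟨b, hb, eb⟩ := hk
    obtain rfl := F.inj (listR_lt (line_sub_R k hb)) (listR_lt ha) eb
    have h2 := linePts_facts.2.2.2.2
    simp only [List.all_eq_true, List.mem_range, Bool.or_eq_true, List.contains_iff_mem] at h2
    have h3 := Nat.eq_of_beq_eq_true ((h2 k k.2 b hb).resolve_left fun e => hc ⟨b, e, rfl⟩)
    rw [← hd, List.getD_eq_getElem _ _ hj, List.getD_eq_getElem _ _ (by rw [linePts_facts.2.1]; exact k.2)] at h3
    exact Fin.ext ((linePts_facts.1.getElem_inj_iff).1 h3).symm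

/-- a line is generated by the centre and its point -/
theorem mem_line {i : Fin 15} {x : G} (hx : x ∈ F.line i) :
    x ∈ F.Cy ∨ ∃ c ∈ F.Cy, x = F.f (linePts.getD i 0) * c := by
  obtain ⟨a, ha, rfl⟩ := hx
  have h := linePts_facts.2.2.2.1
  simp only [List.all_eq_true, List.mem_range, Bool.or_eq_true, List.contains_iff_mem, List.any_eq_true] at h
  rcases h i i.2 a ha with e | ⟨c, hc, e⟩
  · exact Or.inl ⟨a, e, rfl⟩
  · refine Or.inr ⟨F.f c, ⟨c, hc, rfl⟩, ?_⟩
    rw [← Nat.eq_of_beq_eq_true e, F.map_mul (listR_lt (line_sub_R i (pt_mem_line i)))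
      (listR_lt (line_sub_R 0 (Cy_sub_line 0 hc)))]

variable [Finite G]

section Centre

variable (hC : F.Central) (hO : CfsgLib.ProdFusion.OC (centralizer ({F.z} : Set G)) = ⊥)
include hC hO

/-- `R` is normal in the centralizer of `z` -/
theorem Cz_le_normR : centralizer ({F.z} : Set G) ≤ normalizer (F.R : Set G) := by
  intro g hg
  obtain ⟨o, n, ho, -, hn, e⟩ := hC.factor g (mem_centralizer_singleton_iff.1 hg)
  rw [hO, mem_bot] at ho
  rw [e, ho, one_mul]; exact hn

theorem conj_R {h r : G} (hh : h ∈ centralizer ({F.z} : Set G)) (hr : r ∈ F.R) : h * r * h⁻¹ ∈ F.R :=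
  (mem_normalizer_iff.1 (F.Cz_le_normR hC hO hh) r).1 hr

theorem conj_Cy {h g : G} (hh : h ∈ centralizer ({F.z} : Set G)) (hg : g ∈ F.Cy) : h * g * h⁻¹ ∈ F.Cy := by
  refine (F.mem_Cy_iff (F.conj_R hC hO hh (F.Cy_le_R hg))).2 fun r hr => ?_
  have hr' := F.conj_R hC hO (inv_mem hh) hr
  rw [inv_inv] at hr'
  have e := (F.mem_Cy_iff (F.Cy_le_R hg)).1 hg _ hr'
  calc h * g * h⁻¹ * r = h * (g * (h⁻¹ * r * h)) * h⁻¹ := by group
    _ = h * (h⁻¹ * r * h * g) * h⁻¹ := by rw [e]
    _ = _ := by group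

theorem conj_pt_not_Cy {h : G} (hh : h ∈ centralizer ({F.z} : Set G)) (i : Fin 15) :
    h * F.f (linePts.getD i 0) * h⁻¹ ∉ F.Cy := fun hc => by
  have := F.conj_Cy hC hO (inv_mem hh) hc
  rw [show h⁻¹ * (h * F.f (linePts.getD i 0) * h⁻¹) * h⁻¹⁻¹ = F.f (linePts.getD i 0) by group] at this
  exact F.pt_not_mem_Cy i this

theorem exists_image {h : G} (hh : h ∈ centralizer ({F.z} : Set G)) (i : Fin 15) :
    ∃! j, h * F.f (linePts.getD i 0) * h⁻¹ ∈ F.line j :=
  F.existsUnique_line (F.conj_R hC hO hh (F.line_le_R i (F.pt_mem i))) (F.conj_pt_not_Cy hC hO hh i)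

theorem line_map {h : G} (hh : h ∈ centralizer ({F.z} : Set G)) {i j : Fin 15}
    (hij : h * F.f (linePts.getD i 0) * h⁻¹ ∈ F.line j) {x : G} (hx : x ∈ F.line i) :
    h * x * h⁻¹ ∈ F.line j := by
  have hCy : ∀ c ∈ F.Cy, h * c * h⁻¹ ∈ F.line j := fun c hc => by
    obtain ⟨a, ha, e⟩ := F.conj_Cy hC hO hh hc
    exact ⟨a, Cy_sub_line j ha, e⟩
  rcases F.mem_line hx with hc | ⟨c, hc, rfl⟩
  · exact hCy x hc
  · rw [show h * (F.f (linePts.getD i 0) * c) * h⁻¹ = h * F.f (linePts.getD i 0) * h⁻¹ * (h * c * h⁻¹) by group]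
    exact mul_mem hij (hCy c hc)

/-- the action on the lines -/
@[reducible] noncomputable def lineAction : MulAction ↥(centralizer ({F.z} : Set G)) (Fin 15) where
  smul h i := (F.exists_image hC hO h.2 i).exists.choose
  one_smul i := (F.exists_image hC hO (one_mem _) i).unique (F.exists_image hC hO (one_mem _) i).exists.choose_spec
    (by rw [one_mul, inv_one, mul_one]; exact F.pt_mem i)
  mul_smul a b i := by
    refine (F.exists_image hC hO (mul_mem a.2 b.2) i).unique (F.exists_image hC hO (a * b).2 i).exists.choose_spec ?_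
    have := F.line_map hC hO a.2 (F.exists_image hC hO a.2 _).exists.choose_spec
      (F.exists_image hC hO b.2 i).exists.choose_spec
    rwa [show (a : G) * ((b : G) * F.f (linePts.getD i 0) * (b : G)⁻¹) * (a : G)⁻¹ =
      (a : G) * (b : G) * F.f (linePts.getD i 0) * ((a : G) * (b : G))⁻¹ by group] at this

theorem smul_eq {h : ↥(centralizer ({F.z} : Set G))} {i j : Fin 15}
    (e : (h : G) * F.f (linePts.getD i 0) * (h : G)⁻¹ ∈ F.line j) :
    (letI := F.lineAction hC hO; h • i) = j :=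
  (F.exists_image hC hO h.2 i).unique (F.exists_image hC hO h.2 i).exists.choose_spec e

theorem smul_spec (h : ↥(centralizer ({F.z} : Set G))) (i : Fin 15) {x : G} (hx : x ∈ F.line i) :
    (h : G) * x * (h : G)⁻¹ ∈ F.line (letI := F.lineAction hC hO; h • i) :=
  F.line_map hC hO h.2 (F.exists_image hC hO h.2 i).exists.choose_spec hx

/-- an element of odd order fixing the first line is trivial -/
theorem odd_fix_line {x : G} (hx : x ∈ centralizer ({F.z} : Set G)) (ho : Odd (orderOf x))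
    (h0 : x * F.f 8 * x⁻¹ ∈ F.line 0) : x = 1 := by
  have hxz : x * F.z * x⁻¹ = F.z := by rw [mem_centralizer_singleton_iff.1 hx, mul_inv_cancel_right]
  have hf8 : F.f 8 ∈ F.R := ⟨8, by decide, rfl⟩
  have h88 : F.f 8 * F.f 8 = 1 := by
    rw [← F.map_mul (by norm_num) (by norm_num), show mul 8 8 = 0 by decide +kernel, F.f_zero]
  have hx8 : x * F.f 8 * x⁻¹ = F.f 8 := by
    obtain ⟨a, ha, e⟩ := h0
    have ha5 := listR_lt (line_sub_R 0 ha)
    have ha2 : mul a a = 0 := (F.f_eq_one (mul_lt _ _)).1 (by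
      rw [F.map_mul ha5 ha5, e, show x * F.f 8 * x⁻¹ * (x * F.f 8 * x⁻¹) = x * (F.f 8 * F.f 8) * x⁻¹ by group,
        h88]
      group)
    have h := recog_stab_facts.1
    simp only [List.all_eq_true, Bool.or_eq_true, List.contains_iff_mem, Bool.not_eq_true'] at h
    have hm := (h a ha).resolve_left (by simp [ha2])
    have hne : ∀ b ∈ [0, 2], a ≠ b := by
      intro b hb hab
      have hb' : F.f b ∈ F.Cy := ⟨b, by
        simp only [List.mem_cons, List.not_mem_nil, or_false] at hb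
        rcases hb with rfl | rfl <;> decide, rfl⟩
      exact F.conj_pt_not_Cy hC hO hx 0 (by rw [show linePts.getD ((0 : Fin 15) : ℕ) 0 = 8 from rfl, ← e, hab]; exact hb')
    simp only [List.mem_cons, List.not_mem_nil, or_false] at hm hne
    refine fix_of_sq ho (sq_fix hxz F.z_sq ?_)
    rcases hm with rfl | rfl | rfl | rfl
    · exact absurd rfl (hne 0 (Or.inl rfl))
    · exact absurd rfl (hne 2 (Or.inr rfl))
    · exact Or.inl e.symm
    · refine Or.inr (e.symm.trans ?_)
      rw [z, ← F.map_mul (by norm_num) (by norm_num), show mul 8 2 = 10 by decide +kernel]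
  obtain ⟨r, hr, e⟩ := F.conj_R hC hO hx (⟨32, by decide, rfl⟩ : F.f 32 ∈ F.R)
  have hr5 := listR_lt hr
  have hr2 : mul r r = 0 := (F.f_eq_one (mul_lt _ _)).1 (by
    rw [F.map_mul hr5 hr5, e, show x * F.f 32 * x⁻¹ * (x * F.f 32 * x⁻¹) = x * (F.f 32 * F.f 32) * x⁻¹ by group,
      ← F.map_mul (by norm_num) (by norm_num), show mul 32 32 = 0 by decide +kernel, F.f_zero]
    group)
  have hr8 : commB r 8 = true := by
    refine commB_iff.2 ((F.f_comm hr5 (by norm_num)).1 ?_)
    have c : F.f 32 * F.f 8 = F.f 8 * F.f 32 := (F.f_comm (by norm_num) (by norm_num)).2 (by decide +kernel)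
    rw [e]
    calc x * F.f 32 * x⁻¹ * F.f 8 = x * F.f 32 * x⁻¹ * (x * F.f 8 * x⁻¹) := by rw [hx8]
      _ = x * (F.f 32 * F.f 8) * x⁻¹ := by group
      _ = x * F.f 8 * x⁻¹ * (x * F.f 32 * x⁻¹) := by rw [c]; group
      _ = _ := by rw [hx8]
  have hrV : r ∈ listV := by
    have h := recog_stab_facts.2
    simp only [List.all_eq_true, Bool.or_eq_true, List.contains_iff_mem, Bool.not_eq_true'] at h
    rcases h r hr with (h' | h') | h'
    · simp [hr2, hr8] at h'
    · exact h'
    · exfalso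
      simp only [nonabB, List.any_eq_true, Bool.not_eq_true'] at h'
      obtain ⟨a, ha, b, hb, hab⟩ := h'
      have key : ∀ d ∈ centL [2, 8, r], x⁻¹ * F.f d * x ∈ F.A := by
        intro d hd
        rw [← F.centV_eq hC hO]
        obtain ⟨hd5, hd'⟩ := mem_centL.1 hd
        refine mem_centralizer_iff.2 fun v hv => (F.listV_span (g := x⁻¹ * F.f d * x) ?_ ?_ ?_ hv).symm
        · have c := (F.f_comm hd5 (by norm_num)).2 (hd' 2 (by simp))
          rw [show F.f 2 = x⁻¹ * F.f 2 * x by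
            conv_rhs => rw [show F.f 2 = x * F.f 2 * x⁻¹ from hxz.symm]
            group]
          calc x⁻¹ * F.f d * x * (x⁻¹ * F.f 2 * x) = x⁻¹ * (F.f d * F.f 2) * x := by group
            _ = _ := by rw [c]; group
        · have c := (F.f_comm hd5 (by norm_num)).2 (hd' 8 (by simp))
          rw [show F.f 8 = x⁻¹ * F.f 8 * x by
            conv_rhs => rw [← hx8]
            group]
          calc x⁻¹ * F.f d * x * (x⁻¹ * F.f 8 * x) = x⁻¹ * (F.f d * F.f 8) * x := by group
            _ = _ := by rw [c]; group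
        · have c := (F.f_comm hd5 hr5).2 (hd' r (by simp))
          rw [show F.f 32 = x⁻¹ * F.f r * x by rw [e]; group]
          calc x⁻¹ * F.f d * x * (x⁻¹ * F.f r * x) = x⁻¹ * (F.f d * F.f r) * x := by group
            _ = _ := by rw [c]; group
      have c := F.comm_A (key a ha) (key b hb)
      have c' : F.f a * F.f b = F.f b * F.f a := by
        calc F.f a * F.f b = x * (x⁻¹ * F.f a * x * (x⁻¹ * F.f b * x)) * x⁻¹ := by group
          _ = x * (x⁻¹ * F.f b * x * (x⁻¹ * F.f a * x)) * x⁻¹ := by rw [c]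
          _ = _ := by group
      rw [F.f_comm (mem_centL.1 ha).1 (mem_centL.1 hb).1, ← commB_iff, hab] at c'
      exact Bool.false_ne_true c'
  have hx10 : x * F.f 10 * x⁻¹ = F.f 10 := by
    rw [show F.f 10 = F.f 8 * F.z by
      rw [z, ← F.map_mul (by norm_num) (by norm_num), show mul 8 2 = 10 by decide +kernel]]
    rw [show x * (F.f 8 * F.z) * x⁻¹ = x * F.f 8 * x⁻¹ * (x * F.z * x⁻¹) by group, hx8, hxz]
  have h32 : x * F.f 32 * x⁻¹ = F.f 32 := by
    have hne : ∀ b, x * F.f b * x⁻¹ = F.f b → b < 512 → r = b → b = 32 := fun b hb hb5 hrb =>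
      F.inj hb5 (by norm_num) (mul_left_cancel (mul_right_cancel (hb.trans (hrb ▸ e))))
    have hu : ∀ b ∈ [2, 8, 10], x * F.f b * x⁻¹ = F.f b ∧ F.f b * F.f b = 1 := by
      simp only [List.forall_mem_cons, List.not_mem_nil, false_imp_iff, forall_const, and_true]
      refine ⟨⟨hxz, F.z_sq⟩, ⟨hx8, h88⟩, hx10, ?_⟩
      rw [← F.map_mul (by norm_num) (by norm_num), show mul 10 10 = 0 by decide +kernel, F.f_zero]
    simp only [listV, List.mem_cons, List.not_mem_nil, or_false] at hrV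
    have mk : ∀ u ∈ [2, 8, 10], r = mul 32 u → x * F.f 32 * x⁻¹ = F.f 32 := fun u hu' hru => by
      refine fix_of_sq ho (sq_fix (hu u hu').1 (hu u hu').2 (Or.inr ?_))
      rw [← e, hru, F.map_mul (by norm_num) (by
        simp only [List.mem_cons, List.not_mem_nil, or_false] at hu'; omega)]
    rcases hrV with rfl | rfl | rfl | rfl | rfl | rfl | rfl | rfl
    · exact absurd (hne 0 (by rw [F.f_zero]; group) (by norm_num) rfl) (by norm_num)
    · exact absurd (hne 2 hxz (by norm_num) rfl) (by norm_num)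
    · exact absurd (hne 8 hx8 (by norm_num) rfl) (by norm_num)
    · exact absurd (hne 10 hx10 (by norm_num) rfl) (by norm_num)
    · exact e.symm
    · exact mk 2 (by simp) (by decide +kernel)
    · exact mk 8 (by simp) (by decide +kernel)
    · exact mk 10 (by simp) (by decide +kernel)
  have hA : x ∈ F.A := by
    rw [← F.centV_eq hC hO]
    refine mem_centralizer_iff.2 fun v hv => (F.listV_span ?_ ?_ ?_ hv).symm
    exacts [mul_inv_eq_iff_eq_mul.1 hxz, mul_inv_eq_iff_eq_mul.1 hx8, mul_inv_eq_iff_eq_mul.1 h32]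
  obtain ⟨k, hk⟩ := IsPGroup.iff_orderOf.1 (F.T.2.to_le F.A_le_T) ⟨x, hA⟩
  replace hk : orderOf x = 2 ^ k := (Subgroup.orderOf_coe _).trans hk
  refine orderOf_eq_one_iff.1 ?_
  rw [hk] at ho ⊢
  rcases k with _ | k
  · rfl
  · exact absurd ho (by simp [pow_succ, parity_simps])

/-- the stabilizer of the first line is the Sylow subgroup -/
theorem stab_zero :
    (letI := F.lineAction hC hO; MulAction.stabilizer ↥(centralizer ({F.z} : Set G)) (0 : Fin 15)) =
      (F.T : Subgroup G).subgroupOf (centralizer ({F.z} : Set G)) := by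
  letI := F.lineAction hC hO
  haveI : Fact (Nat.Prime 2) := ⟨Nat.prime_two⟩
  have hTS : ∀ g (hg : g ∈ (F.T : Subgroup G)), (⟨g, F.T_le_Cz hg⟩ : ↥(centralizer ({F.z} : Set G))) ∈
      MulAction.stabilizer ↥(centralizer ({F.z} : Set G)) (0 : Fin 15) := fun g hg => by
    obtain ⟨a, ha, rfl⟩ := F.surj g hg
    refine F.smul_eq hC hO ?_
    have h := recog_line_facts.2.2.1
    simp only [mapsL, List.all_eq_true, List.mem_range, List.contains_iff_mem] at h
    exact ⟨_, h a ha _ (pt_mem_line 0), F.f_conj ha (listR_lt (line_sub_R 0 (pt_mem_line 0)))⟩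
  have hp : IsPGroup 2 (MulAction.stabilizer ↥(centralizer ({F.z} : Set G)) (0 : Fin 15)) := by
    rintro ⟨g, hg⟩
    obtain ⟨k, n, hn, hk⟩ := Nat.exists_eq_pow_mul_and_not_dvd (orderOf_pos g).ne' 2 (by norm_num)
    refine ⟨k, Subtype.ext (Subtype.ext ?_)⟩
    show (g : G) ^ 2 ^ k = 1
    refine F.odd_fix_line hC hO (pow_mem g.2 _) ?_ ?_
    · refine (Nat.odd_iff.2 (by omega : n % 2 = 1)).of_dvd_nat ?_
      rw [orderOf_dvd_iff_pow_eq_one, ← pow_mul, ← hk, ← Subgroup.orderOf_coe, pow_orderOf_eq_one]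
    · have h1 := F.smul_spec hC hO (g ^ 2 ^ k) 0 (F.pt_mem 0)
      rw [show (g ^ 2 ^ k) • (0 : Fin 15) = 0 from pow_mem hg (2 ^ k)] at h1
      exact h1
  have hmap := F.T.3 (hp.map (centralizer ({F.z} : Set G)).subtype) fun g hg => ⟨_, hTS g hg, rfl⟩
  rw [← hmap, subgroupOf, comap_map_eq_self_of_injective (Subgroup.subtype_injective _)]

theorem line_pt_cases {v : ℕ} (hv : v ∈ listV) (h0 : v ≠ 0) (h2 : v ≠ 2) :
    ∃ j : Fin 15, (j : ℕ) < 3 ∧ F.f v ∈ F.line j := by
  simp only [listV, List.mem_cons, List.not_mem_nil, or_false] at hv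
  rcases hv with rfl | rfl | rfl | rfl | rfl | rfl | rfl | rfl
  · exact absurd rfl h0
  · exact absurd rfl h2
  · exact ⟨0, by decide, _, by decide, rfl⟩
  · exact ⟨0, by decide, _, by decide, rfl⟩
  · exact ⟨1, by decide, _, by decide, rfl⟩
  · exact ⟨1, by decide, _, by decide, rfl⟩
  · exact ⟨2, by decide, _, by decide, rfl⟩
  · exact ⟨2, by decide, _, by decide, rfl⟩

/-- the lines form a single orbit -/
theorem lines_transitive (hF : F.Fused) (i : Fin 15) :
    ∃ h : ↥(centralizer ({F.z} : Set G)), (letI := F.lineAction hC hO; h • (0 : Fin 15)) = i := by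
  letI := F.lineAction hC hO
  obtain ⟨O, hO'⟩ : ∃ O, O = MulAction.orbit ↥(centralizer ({F.z} : Set G)) (0 : Fin 15) := ⟨_, rfl⟩
  suffices hall : i ∈ O by rw [hO'] at hall; exact hall
  have h00 : (0 : Fin 15) ∈ O := hO' ▸ MulAction.mem_orbit_self _
  have mem_smul : ∀ (h : ↥(centralizer ({F.z} : Set G))) (j : Fin 15), j ∈ O → h • j ∈ O := fun h j hj => by
    rw [hO'] at hj ⊢; exact MulAction.mem_orbit_of_mem_orbit h hj
  -- the orbits of the Sylow subgroup
  have hT : ∀ i j : Fin 15, lineOrb i = lineOrb j → i ∈ O → j ∈ O := fun i j hij hi => by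
    have h := recog_line_facts.2.1
    simp only [List.all_eq_true, List.mem_range, Bool.or_eq_true, List.any_eq_true, Bool.not_eq_true'] at h
    obtain ⟨g, hg, e⟩ := (h i i.2 j j.2).resolve_left (by simp [hij])
    simp only [mapsL, List.all_eq_true, List.contains_iff_mem] at e
    have := mem_smul ⟨F.f g, F.T_le_Cz (F.mem hg)⟩ i hi
    rwa [F.smul_eq hC hO (h := ⟨F.f g, F.T_le_Cz (F.mem hg)⟩) (j := j)
      ⟨_, e _ (pt_mem_line i), F.f_conj hg (listR_lt (line_sub_R i (pt_mem_line i)))⟩] at this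
  -- an element of order three moves the first line
  obtain ⟨x, hxV, hxz, hx3⟩ := F.exists_three hF hC hO
  have hxC : x ∈ centralizer ({F.z} : Set G) := mem_centralizer_singleton_iff.2 hxz
  obtain ⟨v, hv, ev⟩ := (mem_normalizer_iff.1 hxV (F.f 8)).1 (⟨8, by decide, rfl⟩ : F.f 8 ∈ F.V)
  obtain ⟨j1, hj1, hjv⟩ := F.line_pt_cases hC hO hv (fun e => F.conj_pt_not_Cy hC hO hxC 0 ⟨0, by decide, e ▸ ev⟩)
    (fun e => F.conj_pt_not_Cy hC hO hxC 0 ⟨2, by decide, e ▸ ev⟩)
  have hs1 : (⟨x, hxC⟩ : ↥(centralizer ({F.z} : Set G))) • (0 : Fin 15) = j1 := F.smul_eq hC hO (ev ▸ hjv)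
  have hj10 : j1 ≠ 0 := fun e => by
    have hst : (⟨x, hxC⟩ : ↥(centralizer ({F.z} : Set G))) ∈
        MulAction.stabilizer ↥(centralizer ({F.z} : Set G)) (0 : Fin 15) := hs1.trans e
    rw [F.stab_zero hC hO, mem_subgroupOf] at hst
    obtain ⟨k, hk⟩ := IsPGroup.iff_orderOf.1 F.T.2 ⟨x, hst⟩
    replace hk : orderOf x = 2 ^ k := (Subgroup.orderOf_coe _).trans hk
    rw [hx3] at hk
    rcases k with _ | k
    · simp at hk
    · rw [pow_succ] at hk; omega
  have hB : ∀ j : Fin 15, (j : ℕ) < 3 → j ∈ O := fun j hj => by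
    have hmem : j1 ∈ O := hs1 ▸ mem_smul _ _ h00
    rcases Nat.eq_zero_or_pos (j : ℕ) with e | e
    · exact (Fin.ext e : j = 0) ▸ h00
    · refine hT j1 j ?_ hmem
      have h1 : ((j1 : ℕ) = 1 ∨ (j1 : ℕ) = 2) := by
        have : (j1 : ℕ) ≠ 0 := fun e => hj10 (Fin.ext e)
        omega
      have h2 : ((j : ℕ) = 1 ∨ (j : ℕ) = 2) := by omega
      rcases h1 with a | a <;> rcases h2 with b | b <;> rw [a, b] <;> rfl
  -- fusion puts an involution of the third orbit into the first two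
  have h3 : (3 : Fin 15) ∈ O := by
    obtain ⟨g0, hg0⟩ := isConj_iff.1 (hF.conj_z_of_cls (n := 128) (by norm_num) (by decide +kernel)).symm
    obtain ⟨g, -, hg⟩ := F.conj_ext (zs := []) (x := 128) (y := 2) (by simp) (by decide +kernel) (by decide +kernel)
      F.ext_z2 (g := g0) (by rw [F.C_nil]; exact mem_top _) hg0
    obtain ⟨s, hs, n, hn, m, hm, ht, e⟩ := F.cert_move (C := cert_e_z_A) cert_e_z_A_check
      (fun p hp => by simp only [cert_e_z_A, List.mem_singleton] at hp; exact ⟨_, hp⟩) hg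
    simp only [cert_e_z_A, List.mem_cons, List.not_mem_nil, or_false, Prod.mk.injEq] at ht
    obtain rfl : n = 2 := by
      have h := recog_V_facts.2.2.2.2.2.1
      simp only [List.all_eq_true, List.mem_range, Bool.or_eq_true, Bool.not_eq_true'] at h
      refine Nat.eq_of_beq_eq_true ((h n hn).resolve_left ?_)
      rcases ht with ⟨h1, -⟩ | ⟨h1, -⟩ <;> simp [h1]
    have hmV : m ∈ listV := by
      have h := recog_V_facts.2.2.2.1
      simp only [List.all_eq_true, List.mem_range, Bool.or_eq_true, Bool.not_eq_true', List.contains_iff_mem] at h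
      refine (h m hm).resolve_left ?_
      rcases ht with ⟨-, h1⟩ | ⟨-, h1⟩ <;> simp [h1]
    have hz' : F.f s * g * F.z * (F.f s * g)⁻¹ = F.f m := e
    have h128 : F.f s * g * F.f 128 * (F.f s * g)⁻¹ = F.z := by
      have hp := hg.pairs (128, 2) (by simp)
      rw [show F.f s * g * F.f 128 * (F.f s * g)⁻¹ = F.f s * (g * F.f 128 * g⁻¹) * (F.f s)⁻¹ by group, hp]
      show F.f s * F.z * (F.f s)⁻¹ = F.z
      rw [F.comm_z (mem_centL.1 hs).1, mul_inv_cancel_right]
    obtain ⟨n0, hn0, en0⟩ := F.V_trans hF (v := F.f m) ⟨m, hmV, rfl⟩ (fun e1 => F.z_ne (by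
      rw [e1, conj_eq_one_iff] at hz'; exact hz'))
    obtain ⟨h, hh⟩ : ∃ h, h = n0⁻¹ * (F.f s * g) := ⟨_, rfl⟩
    have hhC : h ∈ centralizer ({F.z} : Set G) := by
      refine mem_centralizer_singleton_iff.2 (mul_inv_eq_iff_eq_mul.1 ?_)
      rw [hh, show n0⁻¹ * (F.f s * g) * F.z * (n0⁻¹ * (F.f s * g))⁻¹ =
        n0⁻¹ * (F.f s * g * F.z * (F.f s * g)⁻¹) * n0 by group, hz', ← en0]
      group
    have himg : h * F.f 128 * h⁻¹ ∈ F.V := by
      rw [hh, show n0⁻¹ * (F.f s * g) * F.f 128 * (n0⁻¹ * (F.f s * g))⁻¹ =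
        n0⁻¹ * (F.f s * g * F.f 128 * (F.f s * g)⁻¹) * n0⁻¹⁻¹ by group, h128]
      exact (mem_normalizer_iff.1 (inv_mem (F.normA_le_normV hn0)) _).1 F.z_mem_partV
    obtain ⟨v', hv', ev'⟩ := himg
    obtain ⟨j, hj, hjv⟩ := F.line_pt_cases hC hO hv'
      (fun e => F.conj_pt_not_Cy hC hO hhC 3 ⟨0, by decide, e ▸ ev'⟩)
      (fun e => F.conj_pt_not_Cy hC hO hhC 3 ⟨2, by decide, e ▸ ev'⟩)
    have hsj : (⟨h, hhC⟩ : ↥(centralizer ({F.z} : Set G))) • (3 : Fin 15) = j := F.smul_eq hC hO (ev' ▸ hjv)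
    have := mem_smul (⟨h, hhC⟩⁻¹ : ↥(centralizer ({F.z} : Set G))) j (hB j hj)
    rwa [← hsj, inv_smul_smul] at this
  have hlow : ∀ j : Fin 15, (j : ℕ) < 7 → j ∈ O := fun j hj => by
    by_cases hj3 : (j : ℕ) < 3
    · exact hB j hj3
    · refine hT 3 j ?_ h3
      have : (j : ℕ) = 3 ∨ (j : ℕ) = 4 ∨ (j : ℕ) = 5 ∨ (j : ℕ) = 6 := by omega
      rcases this with a | a | a | a <;> rw [a] <;> rfl
  -- otherwise the first seven lines would commute
  have h7 : (7 : Fin 15) ∈ O := by
    by_contra h7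
    have hiff : ∀ j : Fin 15, j ∈ O → (j : ℕ) < 7 := fun j hj => by
      by_contra hj7
      refine h7 (hT j 7 ?_ hj)
      have hj' := j.2
      have : (j : ℕ) = 7 ∨ (j : ℕ) = 8 ∨ (j : ℕ) = 9 ∨ (j : ℕ) = 10 ∨ (j : ℕ) = 11 ∨ (j : ℕ) = 12 ∨
          (j : ℕ) = 13 ∨ (j : ℕ) = 14 := by omega
      rcases this with a | a | a | a | a | a | a | a <;> rw [a] <;> rfl
    have hperp0 : ∀ j : Fin 15, (j : ℕ) < 7 → ∀ a ∈ F.line 0, ∀ b ∈ F.line j, a * b = b * a := by
      rintro j hj _ ⟨a, ha, rfl⟩ _ ⟨b, hb, rfl⟩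
      have h := recog_line_facts.2.2.2.2.2
      simp only [commLL, List.all_eq_true, List.mem_range] at h
      exact (F.f_comm (listR_lt (line_sub_R 0 ha)) (listR_lt (line_sub_R j hb))).2 (commB_iff.1 (h j hj a ha b hb))
    obtain ⟨g, hg⟩ : ∃ g : ↥(centralizer ({F.z} : Set G)), g • (0 : Fin 15) = 1 := by
      have := hB 1 (by decide)
      rwa [hO'] at this
    have h := recog_line_facts.2.2.2.2.1
    simp only [commLL, List.all_eq_true, List.any_eq_true, List.mem_range, Bool.or_eq_true,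
      Bool.not_eq_true', List.all_eq_false, not_forall, exists_prop] at h
    obtain ⟨j, hj, a, ha, b, hb, hab⟩ := (h 1 (by norm_num)).resolve_left (by simp)
    have h1 := F.smul_spec hC hO g⁻¹ (1 : Fin 15) (⟨a, ha, rfl⟩ : F.f a ∈ F.line 1)
    rw [show g⁻¹ • (1 : Fin 15) = 0 by rw [← hg, inv_smul_smul]] at h1
    have hjF : j < 15 := by omega
    have h2 := F.smul_spec hC hO g⁻¹ ⟨j, hjF⟩ (⟨b, hb, rfl⟩ : F.f b ∈ F.line ⟨j, hjF⟩)
    have c := hperp0 _ (hiff _ (mem_smul g⁻¹ _ (hlow ⟨j, hjF⟩ hj))) _ h1 _ h2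
    have c' : F.f a * F.f b = F.f b * F.f a :=
      mul_right_cancel (b := (g : G)) (by simpa [mul_assoc] using c)
    rw [F.f_comm (listR_lt (line_sub_R 1 ha)) (listR_lt (line_sub_R ⟨j, hjF⟩ hb)), ← commB_iff] at c'
    exact hab c'
  by_cases hi : (i : ℕ) < 7
  · exact hlow i hi
  · refine hT 7 i ?_ h7
    have hi' := i.2
    have : (i : ℕ) = 7 ∨ (i : ℕ) = 8 ∨ (i : ℕ) = 9 ∨ (i : ℕ) = 10 ∨ (i : ℕ) = 11 ∨ (i : ℕ) = 12 ∨
        (i : ℕ) = 13 ∨ (i : ℕ) = 14 := by omega
    rcases this with a | a | a | a | a | a | a | a <;> rw [a] <;> rfl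

/-- the order of the centralizer of `z` -/
theorem card_Cz (hF : F.Fused) : Nat.card ↥(centralizer ({F.z} : Set G)) = 7680 := by
  letI := F.lineAction hC hO
  have h := Subgroup.index_mul_card (MulAction.stabilizer ↥(centralizer ({F.z} : Set G)) (0 : Fin 15))
  have horb : MulAction.orbit ↥(centralizer ({F.z} : Set G)) (0 : Fin 15) = Set.univ :=
    Set.eq_univ_of_forall fun i => F.lines_transitive hC hO hF i
  have hc := Nat.card_congr (MulAction.orbitEquivQuotientStabilizer ↥(centralizer ({F.z} : Set G)) (0 : Fin 15))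
  rw [horb, Nat.card_coe_set_eq, Set.ncard_univ, Nat.card_fin, ← Subgroup.index_eq_card] at hc
  rw [← hc, F.stab_zero hC hO, Nat.card_congr (subgroupOfEquivOfLe F.T_le_Cz).toEquiv, F.card_T] at h
  omega

/-- `R` is the two-core -/
theorem pCore_Cz (hF : F.Fused) :
    (Cfsg.pCore 2 ↥(centralizer ({F.z} : Set G))).map (centralizer ({F.z} : Set G)).subtype = F.R := by
  letI := F.lineAction hC hO
  haveI : Fact (Nat.Prime 2) := ⟨Nat.prime_two⟩
  obtain ⟨Cz, hCz⟩ : ∃ Cz, Cz = centralizer ({F.z} : Set G) := ⟨_, rfl⟩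
  have hRC : F.R ≤ Cz := hCz ▸ F.R_le_T.trans F.T_le_Cz
  refine le_antisymm ?_ ?_
  · rintro _ ⟨g, hg, rfl⟩
    have hfix : ∀ i : Fin 15, g • i = i := fun i => by
      obtain ⟨h, rfl⟩ := F.lines_transitive hC hO hF i
      have hc : h⁻¹ * g * h ∈ Cfsg.pCore 2 ↥(centralizer ({F.z} : Set G)) := by
        have := (CfsgLib.Coprime.pCore_normal' (G := ↥(centralizer ({F.z} : Set G))) 2).conj_mem g hg h⁻¹
        rwa [inv_inv] at this
      have hsy : IsPGroup 2 ((F.T : Subgroup G).subgroupOf (centralizer ({F.z} : Set G))) :=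
        F.T.2.of_equiv (subgroupOfEquivOfLe F.T_le_Cz).symm
      obtain ⟨Q, hQ⟩ := hsy.exists_le_sylow
      have hQT : (Q : Subgroup ↥(centralizer ({F.z} : Set G))) =
          (F.T : Subgroup G).subgroupOf (centralizer ({F.z} : Set G)) := by
        have hm := F.T.3 (Q.2.map (centralizer ({F.z} : Set G)).subtype) fun t ht =>
          ⟨⟨t, F.T_le_Cz ht⟩, hQ (mem_subgroupOf.2 ht), rfl⟩
        rw [← hm, subgroupOf, comap_map_eq_self_of_injective (Subgroup.subtype_injective _)]
      have hst : h⁻¹ * g * h ∈ MulAction.stabilizer ↥(centralizer ({F.z} : Set G)) (0 : Fin 15) := by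
        rw [F.stab_zero hC hO, ← hQT]
        exact CfsgLib.PGroup.pCore_le_sylow Q hc
      rw [MulAction.mem_stabilizer_iff, mul_smul, mul_smul, inv_smul_eq_iff] at hst
      exact hst
    have hgT : (g : G) ∈ (F.T : Subgroup G) := by
      have : g ∈ MulAction.stabilizer ↥(centralizer ({F.z} : Set G)) (0 : Fin 15) := hfix 0
      rw [F.stab_zero hC hO] at this
      exact this
    obtain ⟨a, ha, e⟩ := F.surj _ hgT
    refine ⟨a, (inR_iff ha).1 ?_, e⟩
    have h := recog_line_facts.2.2.2.1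
    simp only [List.all_eq_true, List.mem_range, Bool.or_eq_true, Bool.not_eq_true', List.all_eq_false] at h
    refine (h a ha).resolve_right ?_
    rintro ⟨i, hi, hn⟩
    refine hn ?_
    simp only [mapsL, List.all_eq_true, List.contains_iff_mem]
    intro x hx
    have hm := F.smul_spec hC hO g ⟨i, hi⟩ (⟨x, hx, rfl⟩ : F.f x ∈ F.line ⟨i, hi⟩)
    rw [hfix, ← e, ← F.f_conj ha (listR_lt (line_sub_R ⟨i, hi⟩ hx))] at hm
    obtain ⟨y, hy, ey⟩ := hm
    rwa [← F.inj (listR_lt (line_sub_R ⟨i, hi⟩ hy)) (conj_lt _ _) ey]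
  · rw [← hCz]
    exact CfsgLib.JComp.le_pCoreOf hRC (F.T.2.to_le F.R_le_T) (hCz ▸ F.Cz_le_normR hC hO)

/-- the quotient by `R` is the symmetric group of degree five -/
theorem exists_Cz_equiv (hF : F.Fused) :
    Nonempty (↥(centralizer ({F.z} : Set G)) ⧸ Cfsg.pCore 2 ↥(centralizer ({F.z} : Set G)) ≃*
      Equiv.Perm (Fin 5)) := by
  classical
  haveI : Fact (Nat.Prime 2) := ⟨Nat.prime_two⟩
  obtain ⟨K, hKd⟩ : ∃ K, K = Cfsg.pCore 2 ↥(centralizer ({F.z} : Set G)) := ⟨_, rfl⟩
  have hKR : K = F.R.subgroupOf (centralizer ({F.z} : Set G)) := by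
    rw [hKd, ← F.pCore_Cz hC hO hF, subgroupOf, comap_map_eq_self_of_injective (Subgroup.subtype_injective _)]
  obtain ⟨L, hL⟩ : ∃ L, L = (normalizer (F.V : Set G)).subgroupOf (centralizer ({F.z} : Set G)) := ⟨_, rfl⟩
  have hcL : Nat.card L = 1536 := by
    have h7 : (centralizer ({F.z} : Set G)).relIndex (normalizer (F.V : Set G)) = 7 := F.relIndex_Cz hF
    have h := Subgroup.index_mul_card ((centralizer ({F.z} : Set G)).subgroupOf (normalizer (F.V : Set G)))
    rw [show ((centralizer ({F.z} : Set G)).subgroupOf (normalizer (F.V : Set G))).index = 7 from h7,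
      F.card_normV hF hC hO] at h
    rw [hL, ← Subgroup.inf_subgroupOf_right, inf_comm,
      Nat.card_congr (subgroupOfEquivOfLe (inf_le_left (a := centralizer ({F.z} : Set G))
        (b := normalizer (F.V : Set G)))).toEquiv,
      ← Nat.card_congr (subgroupOfEquivOfLe (inf_le_right (a := centralizer ({F.z} : Set G))
        (b := normalizer (F.V : Set G)))).toEquiv, Subgroup.inf_subgroupOf_right]
    omega
  have hidx : L.index = 5 := by
    have h := L.index_mul_card
    rw [hcL, F.card_Cz hC hO hF] at h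
    omega
  obtain ⟨N, hN⟩ : ∃ N, N = L.normalCore := ⟨_, rfl⟩
  haveI hNn : N.Normal := hN ▸ normalCore_normal L
  haveI : K.Normal := hKd ▸ CfsgLib.Coprime.pCore_normal' 2
  have hKN : K ≤ N := by
    rw [hN]
    refine (normal_le_normalCore).2 ?_
    rw [hKR, hL]
    exact comap_mono (F.R_le_T.trans F.T_le_normV)
  -- the part of `N` in `A R` lies in `R`
  have hB : ∀ g ∈ N, (g : G) ∈ F.A ⊔ F.R → (g : G) ∈ F.R := by
    intro g hg hgAR
    obtain ⟨B, hBd⟩ : ∃ B, B = N ⊓ (F.A ⊔ F.R).subgroupOf (centralizer ({F.z} : Set G)) := ⟨_, rfl⟩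
    have hB2 : IsPGroup 2 B :=
      ((F.T.2.to_le (sup_le F.A_le_T F.R_le_T)).comap_subtype (K := centralizer ({F.z} : Set G))).to_le
        (hBd ▸ inf_le_right)
    have hBN : N ≤ normalizer (B : Set ↥(centralizer ({F.z} : Set G))) := fun n hn => by
      refine CfsgLib.ProdFusion.mem_of_forall_conj_mem fun b hb => ?_
      rw [hBd, mem_inf] at hb ⊢
      refine ⟨hNn.conj_mem b hb.1 n, ?_⟩
      rw [mem_subgroupOf, coe_mul, coe_mul, coe_inv]
      have hnA : (n : G) ∈ normalizer (F.A : Set G) := by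
        rw [← F.normV_eq hC hO]
        have : n ∈ L := normalCore_le L (hN ▸ hn)
        rw [hL] at this
        exact this
      have hle : (F.A ⊔ F.R).map (MulAut.conj (n : G)).toMonoidHom ≤ F.A ⊔ F.R := by
        rw [Subgroup.map_sup]
        refine sup_le_sup ?_ ?_
        · rintro _ ⟨a, ha, rfl⟩; exact (mem_normalizer_iff.1 hnA a).1 ha
        · rintro _ ⟨a, ha, rfl⟩; exact F.conj_R hC hO n.2 ha
      exact hle ⟨_, hb.2, rfl⟩
    have h1 : B ≤ Cfsg.pCoreOf 2 N := CfsgLib.JComp.le_pCoreOf (hBd ▸ inf_le_left) hB2 hBN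
    have h2 : Cfsg.pCoreOf 2 N ≤ K := by
      rw [hKd]
      haveI : (Cfsg.pCoreOf 2 N).Normal := by
        rw [← normalizer_eq_top_iff, ← top_le_iff]
        refine le_trans ?_ (CfsgLib.JComp.normalizer_le_normalizer_pCoreOf N)
        rw [normalizer_eq_top_iff.2 hNn]
      exact CfsgLib.PGroup.le_pCore inferInstance ((CfsgLib.PGroup.isPGroup_pCore 2 _).map _)
    have h3 := h2 (h1 (hBd ▸ mem_inf.2 ⟨hg, mem_subgroupOf.2 hgAR⟩ : g ∈ B))
    rw [hKR] at h3
    exact h3
  -- there are no elements of order three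
  have hno3 : ∀ g ∈ N, orderOf g ≠ 3 := by
    intro g hg h3
    have hgA : (g : G) ∈ normalizer (F.A : Set G) := by
      rw [← F.normV_eq hC hO]
      have : g ∈ L := normalCore_le L (hN ▸ hg)
      rw [hL] at this
      exact this
    have ho : Odd (orderOf (g : G)) := by rw [Subgroup.orderOf_coe, h3]; decide
    have hfix : ∀ v ∈ F.V, (g : G) * v * (g : G)⁻¹ = v := by
      intro v hv
      obtain ⟨a, ha, rfl⟩ := F.V_square hv
      obtain ⟨r, hr⟩ : ∃ r, r = (g : G) * a * (g : G)⁻¹ * a⁻¹ := ⟨_, rfl⟩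
      have hga := (mem_normalizer_iff.1 hgA a).1 ha
      have hrA : r ∈ F.A := hr ▸ mul_mem hga (inv_mem ha)
      have haC : a ∈ centralizer ({F.z} : Set G) := F.T_le_Cz (F.A_le_T ha)
      have hrN : g * (⟨a, haC⟩ * g⁻¹ * ⟨a, haC⟩⁻¹) ∈ N := mul_mem hg (hNn.conj_mem _ (inv_mem hg) _)
      have hrR : r ∈ F.R := by
        have := hB _ hrN (mem_sup_left (by
          simp only [coe_mul, coe_inv]
          rwa [hr, mul_assoc, mul_assoc, ← mul_assoc a] at hrA))
        simpa [hr, mul_assoc] using this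
      have hr2 : r * r = 1 ∨ r * r = F.z := by
        obtain ⟨b, hb, hbe⟩ := hrA
        have hb' := List.mem_range.1 hb
        obtain ⟨c, hc, hce⟩ := hrR
        obtain rfl := F.inj (by omega) (listR_lt hc) (hbe.trans hce.symm)
        have h := recog_R_facts.2.2.2.2.2.1
        simp only [List.all_eq_true, Bool.or_eq_true, Bool.not_eq_true'] at h
        rcases h b hc with (e | e) | e
        · rw [show Nat.blt b 64 = true by rw [Nat.blt_eq]; exact hb'] at e; exact Bool.noConfusion e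
        · exact Or.inl (by rw [← hbe, ← F.map_mul (by omega) (by omega), Nat.eq_of_beq_eq_true e, F.f_zero])
        · exact Or.inr (by rw [← hbe, ← F.map_mul (by omega) (by omega), Nat.eq_of_beq_eq_true e]; rfl)
      have hgz : (g : G) * F.z * (g : G)⁻¹ = F.z := by
        rw [mem_centralizer_singleton_iff.1 g.2, mul_inv_cancel_right]
      have himg : (g : G) * (a * a) * (g : G)⁻¹ = a * a * (r * r) := by
        have c : Commute a r := F.comm_A ha hrA
        rw [show (g : G) * (a * a) * (g : G)⁻¹ = (g * a * (g : G)⁻¹) * (g * a * (g : G)⁻¹) by group,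
          show (g : G) * a * (g : G)⁻¹ = r * a by rw [hr]; group, ← c.eq]
        calc a * r * (a * r) = a * (r * a) * r := by group
          _ = a * (a * r) * r := by rw [← c.eq]
          _ = _ := by group
      refine fix_of_sq ho (sq_fix hgz F.z_sq ?_)
      rcases hr2 with e | e
      · exact Or.inl (by rw [himg, e, mul_one])
      · exact Or.inr (by rw [himg, e])
    have hgA' : (g : G) ∈ F.A := by
      rw [← F.centV_eq hC hO]
      exact mem_centralizer_iff.2 fun v hv => (mul_inv_eq_iff_eq_mul.1 (hfix v hv)).symm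
    obtain ⟨k, hk⟩ := IsPGroup.iff_orderOf.1 (F.T.2.to_le F.A_le_T) ⟨_, hgA'⟩
    replace hk : orderOf (g : G) = 2 ^ k := (Subgroup.orderOf_coe (⟨(g : G), hgA'⟩ : F.A)).trans hk
    rw [Subgroup.orderOf_coe, h3] at hk
    rcases k with _ | k
    · simp at hk
    · rw [pow_succ] at hk; omega
  have hN2 : N ≤ K := by
    rw [hKd]
    refine CfsgLib.PGroup.le_pCore hNn ?_
    have hd : Nat.card N ∣ 2 ^ 9 * 3 := by
      have := Subgroup.card_dvd_of_le (hN ▸ normalCore_le L : N ≤ L)
      rw [hcL] at this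
      exact this
    haveI : Fact (Nat.Prime 3) := ⟨Nat.prime_three⟩
    have hn3 : ¬ 3 ∣ Nat.card N := fun h => by
      obtain ⟨g, hg⟩ := exists_prime_orderOf_dvd_card' 3 h
      exact hno3 g g.2 ((Subgroup.orderOf_coe g).trans hg)
    obtain ⟨k, -, hk⟩ := (Nat.dvd_prime_pow Nat.prime_two).1
      (((Nat.Prime.coprime_iff_not_dvd Nat.prime_three).2 hn3).symm.dvd_of_dvd_mul_right hd)
    exact IsPGroup.of_card hk
  obtain ⟨σ, hσ⟩ : ∃ σ, σ = MulAction.toPermHom ↥(centralizer ({F.z} : Set G))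
    (↥(centralizer ({F.z} : Set G)) ⧸ L) := ⟨_, rfl⟩
  have hker : σ.ker = K := by
    rw [hσ, ← normalCore_eq_ker, ← hN]
    exact le_antisymm hN2 hKN
  have h5 : Nat.card (↥(centralizer ({F.z} : Set G)) ⧸ L) = 5 := hidx
  have hsurj : Function.Surjective σ := by
    rw [← MonoidHom.range_eq_top]
    refine eq_top_of_card_eq _ ?_
    rw [← Subgroup.index_ker, hker, Nat.card_perm, h5]
    have h := K.index_mul_card
    rw [hKR, Nat.card_congr (subgroupOfEquivOfLe (F.R_le_T.trans F.T_le_Cz)).toEquiv,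
      (show Nat.card ↥F.R = 64 from (F.card_sub _ recog_R_facts.2.2.2.1).trans recog_R_facts.2.2.1), F.card_Cz hC hO hF, ← hKR] at h
    simp only [Nat.factorial]
    omega
  obtain ⟨e5⟩ : Nonempty ((↥(centralizer ({F.z} : Set G)) ⧸ L) ≃ Fin 5) :=
    ⟨(Finite.equivFin _).trans (finCongr h5)⟩
  exact ⟨((QuotientGroup.quotientMulEquivOfEq (hker.trans hKd).symm).trans
    (QuotientGroup.quotientKerEquivOfSurjective σ hsurj)).trans e5.permCongrHom⟩

end Centre

end Frame

end CfsgLib.Spor.HSSylow
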