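import Cfsg.Agent.Lib.Spor.HSSylow.Classes
import Cfsg.Agent.Lib.Spor.HSSylow.Parts

/-!
# Facts about the coded group used in the recognition

The normal subgroups `A` and `V`, the fifteen lines of `R` over its centre `Cy` and the permutations induced on
them by the coded group.
-/

set_option autoImplicit false
set_option maxRecDepth 100000

namespace CfsgLib.Spor.HSSylow

/-- The least codes of the fifteen non-trivial cosets of `Cy` in `R`. -/
def linePts : List ℕ := [8, 32, 40, 128, 136, 160, 168, 320, 328, 352, 360, 448, 456, 480, 488]

/-- A line: `Cy` and a coset of it. -/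
def lineL (i : ℕ) : List ℕ := [0, 1, 2, 3, linePts.getD i 0, linePts.getD i 0 + 1, linePts.getD i 0 + 2,
  linePts.getD i 0 + 3]

/-- The orbit of the coded group containing a line. -/
def lineOrb (i : ℕ) : ℕ := [0, 1, 1, 2, 2, 2, 2, 3, 3, 3, 3, 3, 3, 3, 3].getD i 0

/-- The code maps a line into another. -/
def mapsL (g i j : ℕ) : Bool := (lineL i).all fun x => (lineL j).contains (conj g x)

/-- Membership in `listR`, as arithmetic. -/
def inR (x : ℕ) : Bool :=
  Nat.beq (Nat.land x 20) 0 && Nat.beq (Nat.land (Nat.shiftRight 165 (Nat.div x 64)) 1) 1

/-- Two lists commute elementwise. -/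
def commLL (l m : List ℕ) : Bool := l.all fun x => m.all fun y => commB x y

/-- Some two elements of the list do not commute. -/
def nonabB (l : List ℕ) : Bool := l.any fun x => l.any fun y => !commB x y

theorem recog_A_mul : ((List.range 64).all fun a => (List.range 64).all fun b => Nat.beq (mul a b) (addA a b)) = true := by
  decide +kernel

theorem recog_A_normal : ((List.range 512).all fun g => (List.range 64).all fun a => Nat.blt (conj g a) 64) = true := by
  decide +kernel

theorem recog_V_facts : ((List.range 512).all fun g => listV.all fun v => listV.contains (conj g v)) = true ∧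
    centL [2, 8, 32] = List.range 64 ∧
    (listV.all fun v => Nat.beq (mul v v) 0 && Nat.blt v 64 && (List.range 64).contains v &&
      (Nat.beq v 0 || Nat.blt (cls v) 3) && (List.range 64).any fun a => Nat.beq (mul a a) v) = true ∧
    ((List.range 512).all fun n => !(Nat.blt (cls n) 3) || listV.contains n) = true ∧
    ((List.range 64).all fun a => !(Nat.beq (mul a a) 0) || listV.contains a) = true ∧
    ((List.range 512).all fun n => !(Nat.beq (cls n) 0) || Nat.beq n 2) = true ∧
    listV.length = 8 ∧ listV.Nodup := by
  decide +kernel

theorem inR_check : ((List.range 512).all fun x => inR x == listR.contains x) = true := by decide +kernel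

theorem recog_R_facts : ((List.range 512).all fun g => listR.all fun r => inR (conj g r)) = true ∧
    centL listR = listCy ∧ listR.length = 64 ∧ listR.Nodup ∧
    (listR.all fun r => listCy.contains r || linePts.contains (r - r % 4)) = true ∧
    (listR.all fun r => !(Nat.blt r 64) || Nat.beq (mul r r) 0 || Nat.beq (mul r r) 2) = true ∧
    (listR.all fun r => (listCy.any fun c => listE.any fun e => Nat.beq (mul c e) r)) = true ∧
    (listCy.all fun c => listE.contains c == (Nat.beq c 0 || Nat.beq c 2)) = true ∧
    ((listV ++ listE ++ listCy).all fun v => inR v) = true := by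
  decide +kernel

theorem recog_E_facts : (listE.all fun a => listE.all fun b =>
      Nat.beq (mul (mul (mul a b) (inv a)) (inv b)) 0 || Nat.beq (mul (mul (mul a b) (inv a)) (inv b)) 2) = true ∧
    (listE.all fun a => Nat.beq (mul a a) 0 || Nat.beq (mul a a) 2) = true ∧
    (listE.all fun u => (listE.all fun s => commB s u) == (Nat.beq u 0 || Nat.beq u 2)) = true ∧
    nonabB listE = true ∧ listE.length = 32 ∧ listE.Nodup := by
  decide +kernel

theorem recog_line_facts : ((List.range 15).all fun i => closedB (lineL i) &&
      ((lineL i).all fun x => listR.contains x) && !(listCy.contains (linePts.getD i 0))) = true ∧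
    ((List.range 15).all fun i => (List.range 15).all fun j =>
      !(Nat.beq (lineOrb i) (lineOrb j)) || (List.range 512).any fun g => mapsL g i j) = true ∧
    ((List.range 512).all fun g => mapsL g 0 0) = true ∧
    ((List.range 512).all fun g => inR g || !((List.range 15).all fun i => mapsL g i i)) = true ∧
    ((List.range 15).all fun k => Nat.beq k 0 || (List.range 7).any fun j => !commLL (lineL k) (lineL j)) = true ∧
    ((List.range 7).all fun j => commLL (lineL 0) (lineL j)) = true := by
  decide +kernel

theorem recog_stab_facts : ((lineL 0).all fun x => !(Nat.beq (mul x x) 0) || [0, 2, 8, 10].contains x) = true ∧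
    (listR.all fun r => !(Nat.beq (mul r r) 0 && commB r 8) || listV.contains r || nonabB (centL [2, 8, r])) = true := by
  decide +kernel

end CfsgLib.Spor.HSSylow
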