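import Cfsg.Agent.Lib.Spor.HSSylow.CoreFacts
import Cfsg.Agent.Lib.Spor.HSSylow.Recog.Data
import Cfsg.Agent.Lib.Coprime.Core
import Cfsg.Agent.Lib.JComp.Prelim
import Cfsg.Agent.Lib.PGroup.Basic
import Cfsg.Agent.S2553
import Mathlib.LinearAlgebra.FreeModule.Finite.Matrix
import Mathlib.LinearAlgebra.Dimension.Free
import Mathlib.GroupTheory.Sylow

/-!
# The two-local subgroup: the normalizer of `V`

Without an odd core in the centralizer of `z`, the subgroup `A` is the centralizer of `V`, and the normalizer of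
`V` is an extension of `A` by `GL(3,2)`.
-/

set_option autoImplicit false
set_option linter.unusedSectionVars false
set_option linter.style.haveILetI false
set_option maxRecDepth 100000

namespace CfsgLib.Spor.HSSylow

open Subgroup

theorem listR_lt {r : ℕ} (h : r ∈ listR) : r < 512 := by
  have hc := closed_parts.2.2.1
  simp only [closedB, Bool.and_eq_true, List.all_eq_true, Nat.blt_eq] at hc
  exact (hc.2 r h).1.1

theorem listV_lt {r : ℕ} (h : r ∈ listV) : r < 64 := by
  have hc := recog_V_facts.2.2.1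
  simp only [List.all_eq_true, Bool.and_eq_true, Nat.blt_eq] at hc
  exact (hc r h).1.1.1.2

theorem inR_iff {x : ℕ} (hx : x < 512) : inR x = true ↔ x ∈ listR := by
  have h := inR_check
  simp only [List.all_eq_true, List.mem_range, beq_iff_eq] at h
  rw [h x hx, List.contains_iff_mem]

/-- An element fixing `u`, moving `w` into `w⟨u⟩` and squaring into an element that then fixes `w`. -/
theorem sq_fix {G : Type*} [Group G] {x u w : G} (hu : x * u * x⁻¹ = u) (h2 : u * u = 1)
    (hw : x * w * x⁻¹ = w ∨ x * w * x⁻¹ = w * u) : x * x * w * (x * x)⁻¹ = w := by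
  rw [show x * x * w * (x * x)⁻¹ = x * (x * w * x⁻¹) * x⁻¹ by group]
  rcases hw with e | e
  · rw [e, e]
  · rw [e, show x * (w * u) * x⁻¹ = x * w * x⁻¹ * (x * u * x⁻¹) by group, hu, e, mul_assoc, h2, mul_one]

/-- An element of odd order fixes what its square fixes. -/
theorem fix_of_sq {G : Type*} [Group G] {x w : G} (ho : Odd (orderOf x)) (h : x * x * w * (x * x)⁻¹ = w) :
    x * w * x⁻¹ = w := by
  obtain ⟨m, hm⟩ := ho
  have hc : Commute (x * x) w := by rw [Commute, SemiconjBy]; exact mul_inv_eq_iff_eq_mul.1 h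
  have e : (x * x) ^ (m + 1) = x := by
    rw [← pow_two, ← pow_mul, show 2 * (m + 1) = 2 * m + 1 + 1 by ring, pow_succ, ← hm, pow_orderOf_eq_one, one_mul]
  have := hc.pow_left (m + 1)
  rw [e] at this
  rw [this.eq, mul_inv_cancel_right]

namespace Frame

variable {G : Type*} [Group G] (F : Frame G)

theorem V_le_A : F.V ≤ F.A := by
  rintro _ ⟨a, ha, rfl⟩
  exact ⟨a, List.mem_range.2 (listV_lt ha), rfl⟩

theorem invol_A {x : G} (hx : x ∈ F.A) (h2 : x * x = 1) : x ∈ F.V := by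
  obtain ⟨a, ha, rfl⟩ := hx
  have ha' := List.mem_range.1 ha
  have h := recog_V_facts.2.2.2.2.1
  simp only [List.all_eq_true, List.mem_range, Bool.or_eq_true, Bool.not_eq_true'] at h
  rw [← F.map_mul (by omega) (by omega), F.f_eq_one (mul_lt _ _)] at h2
  rcases h a ha' with e | e
  · simp [h2] at e
  · exact ⟨a, List.contains_iff_mem.1 e, rfl⟩

theorem V_sq {x : G} (hx : x ∈ F.V) : x * x = 1 := by
  obtain ⟨a, ha, rfl⟩ := hx
  have := listV_lt ha
  have h := recog_V_facts.2.2.1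
  simp only [List.all_eq_true, Bool.and_eq_true] at h
  rw [← F.map_mul (by omega) (by omega), Nat.eq_of_beq_eq_true (h a ha).1.1.1.1, F.f_zero]

theorem V_square {x : G} (hx : x ∈ F.V) : ∃ a ∈ F.A, a * a = x := by
  obtain ⟨a, ha, rfl⟩ := hx
  have h := recog_V_facts.2.2.1
  simp only [List.all_eq_true, Bool.and_eq_true, List.any_eq_true, List.mem_range] at h
  obtain ⟨b, hb, e⟩ := (h a ha).2
  exact ⟨F.f b, ⟨b, List.mem_range.2 hb, rfl⟩, by
    rw [← F.map_mul (by omega) (by omega), Nat.eq_of_beq_eq_true e]⟩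

theorem natCard_V : Nat.card ↥F.V = 8 := by
  have e : Nat.card {a // a ∈ listV} = 8 := by
    rw [Nat.subtype_card listV.toFinset (fun _ => List.mem_toFinset),
      List.toFinset_card_of_nodup recog_V_facts.2.2.2.2.2.2.2, recog_V_facts.2.2.2.2.2.2.1]
  rw [← e]
  refine (Nat.card_eq_of_bijective (fun a : {a // a ∈ listV} => (⟨F.f a, a, a.2, rfl⟩ : F.V))
    ⟨fun a b h => ?_, fun g => ?_⟩).symm
  · exact Subtype.ext (F.inj ((listV_lt a.2).trans (by norm_num)) ((listV_lt b.2).trans (by norm_num))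
      (congrArg Subtype.val h))
  · obtain ⟨a, ha, e⟩ := g.2
    exact ⟨⟨a, ha⟩, Subtype.ext e⟩

theorem z_mem_partV : F.z ∈ F.V := ⟨2, by decide, rfl⟩

theorem z_mem_R : F.z ∈ F.R := ⟨2, by decide, rfl⟩

theorem R_conj {g x : G} (hg : g ∈ (F.T : Subgroup G)) (hx : x ∈ F.R) : g * x * g⁻¹ ∈ F.R := by
  obtain ⟨a, ha, rfl⟩ := F.surj g hg
  obtain ⟨r, hr, rfl⟩ := hx
  have h := recog_R_facts.1
  simp only [List.all_eq_true, List.mem_range] at h
  exact ⟨conj a r, (inR_iff (conj_lt _ _)).1 (h a ha r hr), F.f_conj ha (listR_lt hr)⟩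

theorem A_gens {g : G} : g ∈ F.C [2, 8, 32] ↔ g * F.f 2 = F.f 2 * g ∧ g * F.f 8 = F.f 8 * g ∧ g * F.f 32 = F.f 32 * g := by
  rw [F.mem_C]
  simp only [List.forall_mem_cons, List.not_mem_nil, false_imp_iff, forall_const, and_true]

theorem C_V : centralizer (F.V : Set G) ≤ F.C [2, 8, 32] := fun g hg =>
  F.mem_C.2 fun v hv => (mem_centralizer_iff.1 hg _ ⟨v, by
    simp only [List.mem_cons, List.not_mem_nil, or_false] at hv
    rcases hv with rfl | rfl | rfl <;> decide, rfl⟩).symm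

theorem listV_span {g : G} (h2 : g * F.f 2 = F.f 2 * g) (h8 : g * F.f 8 = F.f 8 * g)
    (h32 : g * F.f 32 = F.f 32 * g) {x : G} (hx : x ∈ F.V) : g * x = x * g := by
  obtain ⟨a, ha, rfl⟩ := hx
  have key : ∀ a ∈ listV, a = 0 ∨ a = 2 ∨ a = 8 ∨ a = 32 ∨ a = mul 2 8 ∨ a = mul 2 32 ∨ a = mul 8 32 ∨
      a = mul (mul 2 8) 32 := by decide +kernel
  have c2 : Commute g (F.f 2) := h2
  have c8 : Commute g (F.f 8) := h8
  have c32 : Commute g (F.f 32) := h32
  rcases key a ha with rfl | rfl | rfl | rfl | rfl | rfl | rfl | rfl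
  · rw [F.f_zero, mul_one, one_mul]
  · exact h2
  · exact h8
  · exact h32
  · rw [F.map_mul (by norm_num) (by norm_num)]; exact c2.mul_right c8
  · rw [F.map_mul (by norm_num) (by norm_num)]; exact c2.mul_right c32
  · rw [F.map_mul (by norm_num) (by norm_num)]; exact c8.mul_right c32
  · rw [F.map_mul (mul_lt _ _) (by norm_num), F.map_mul (by norm_num) (by norm_num)]
    exact (c2.mul_right c8).mul_right c32

variable [Finite G]

theorem normA_le_normV : normalizer (F.A : Set G) ≤ normalizer (F.V : Set G) := by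
  intro g hg
  refine CfsgLib.ProdFusion.mem_of_forall_conj_mem fun x hx => F.invol_A ((mem_normalizer_iff.1 hg x).1 (F.V_le_A hx)) ?_
  rw [show g * x * g⁻¹ * (g * x * g⁻¹) = g * (x * x) * g⁻¹ by group, F.V_sq hx]
  group

theorem T_le_normV : (F.T : Subgroup G) ≤ normalizer (F.V : Set G) := F.T_le_normA.trans F.normA_le_normV

theorem A_eq_TC : F.A = F.TC [2, 8, 32] := by
  have hzs : ∀ z ∈ [2, 8, 32], z < 512 := by decide
  ext g
  rw [F.mem_TC hzs, recog_V_facts.2.1]
  rfl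

/-- the odd elements of the normalizer of `A` fixing `V` fix `A` -/
theorem odd_fix_A {x : G} (hx : x ∈ normalizer (F.A : Set G)) (hV : ∀ v ∈ F.V, x * v * x⁻¹ = v)
    (ho : Odd (orderOf x)) {a : G} (ha : a ∈ F.A) : x * a * x⁻¹ = a := by
  obtain ⟨u, hu⟩ : ∃ u, u = a⁻¹ * (x * a * x⁻¹) := ⟨_, rfl⟩
  have hxa := (mem_normalizer_iff.1 hx a).1 ha
  have huA : u ∈ F.A := hu ▸ mul_mem (inv_mem ha) hxa
  have haa : a * a ∈ F.V := by
    refine F.invol_A (mul_mem ha ha) ?_
    obtain ⟨b, hb, rfl⟩ := ha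
    have hb' := List.mem_range.1 hb
    have h4 : ∀ b < 64, mul (mul b b) (mul b b) = 0 := by decide +kernel
    rw [← F.map_mul (by omega) (by omega), ← F.map_mul (mul_lt _ _) (mul_lt _ _), h4 b hb', F.f_zero]
  have hu2 : u * u = 1 := by
    have c : Commute a⁻¹ (x * a * x⁻¹) := (show Commute a (x * a * x⁻¹) from F.comm_A ha hxa).inv_left
    rw [hu, show a⁻¹ * (x * a * x⁻¹) * (a⁻¹ * (x * a * x⁻¹)) = a⁻¹ * ((x * a * x⁻¹) * a⁻¹) * (x * a * x⁻¹) by group,
      ← c.eq, show a⁻¹ * (a⁻¹ * (x * a * x⁻¹)) * (x * a * x⁻¹) = (a * a)⁻¹ * (x * (a * a) * x⁻¹) by group,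
      hV _ haa, inv_mul_cancel]
  have huV : u ∈ F.V := F.invol_A huA hu2
  refine fix_of_sq ho (sq_fix (hV u huV) hu2 (Or.inr ?_))
  rw [hu]; group

/-- no elements of odd order fix `V` -/
theorem centV_eq (hC : F.Central) (hO : CfsgLib.ProdFusion.OC (centralizer ({F.z} : Set G)) = ⊥) :
    centralizer (F.V : Set G) = F.A := by
  haveI : Fact (Nat.Prime 2) := ⟨Nat.prime_two⟩
  obtain ⟨C, hCd⟩ : ∃ C, C = centralizer (F.V : Set G) := ⟨_, rfl⟩
  have hzs : ∀ z ∈ [2, 8, 32], z < 512 := by decide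
  have hAC : F.A ≤ C := fun a ha => hCd ▸ mem_centralizer_iff.2 fun v hv => F.comm_A (F.V_le_A hv) ha
  -- the two-elements normalising `A`
  have hAmax : ∀ P : Subgroup G, IsPGroup 2 P → F.A ≤ P → P ≤ C → P ≤ normalizer (F.A : Set G) → P ≤ F.A := by
    intro P hP hAP hPC hPN
    obtain ⟨Q, hQ⟩ := (F.T.2.of_equiv (subgroupOfEquivOfLe F.T_le_normA).symm).exists_le_sylow
    obtain ⟨c, hc⟩ := CfsgLib.Invol.exists_conj_le_sylow (hP.of_equiv (subgroupOfEquivOfLe hPN).symm) Q
    have hQT : (Q : Subgroup (normalizer (F.A : Set G))).map (normalizer (F.A : Set G)).subtype = (F.T : Subgroup G) := by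
      refine F.T.3 (Q.2.map _) fun x hx => ⟨⟨x, F.T_le_normA hx⟩, hQ (mem_subgroupOf.2 hx), rfl⟩
    intro y hy
    have h1 : (c : G) * y * (c : G)⁻¹ ∈ (F.T : Subgroup G) := hQT ▸ ⟨_, hc ⟨y, hPN hy⟩ (mem_subgroupOf.2 hy), rfl⟩
    have h2 : (c : G) * y * (c : G)⁻¹ ∈ F.A := by
      refine (SetLike.ext_iff.1 F.A_eq_TC _).2 ?_
      refine Subgroup.mem_inf.2 ⟨h1, F.C_V (mem_centralizer_iff.2 fun v hv => ?_)⟩
      have hv' : (c : G)⁻¹ * v * (c : G) ∈ F.V := by
        have := (mem_normalizer_iff.1 (inv_mem (F.normA_le_normV c.2)) v).1 hv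
        rwa [inv_inv] at this
      have e := mem_centralizer_iff.1 (hCd ▸ hPC hy) _ hv'
      calc v * ((c : G) * y * (c : G)⁻¹) = c * ((c : G)⁻¹ * v * c * y) * (c : G)⁻¹ := by group
        _ = c * (y * ((c : G)⁻¹ * v * c)) * (c : G)⁻¹ := by rw [e]
        _ = _ := by group
    have := (mem_normalizer_iff.1 (inv_mem c.2) _).1 h2
    rwa [inv_inv, show (c : G)⁻¹ * ((c : G) * y * (c : G)⁻¹) * c = y by group] at this
  -- `A` is a Sylow subgroup
  have hA2 : IsPGroup 2 F.A := F.T.2.to_le F.A_le_T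
  obtain ⟨S, hS⟩ := (hA2.of_equiv (subgroupOfEquivOfLe hAC).symm).exists_le_sylow
  have hSA : (S : Subgroup C) = F.A.subgroupOf C := by
    refine le_antisymm ?_ hS
    by_contra hne
    haveI := S.2.isNilpotent
    have hlt : (F.A.subgroupOf C).subgroupOf (S : Subgroup C) < ⊤ :=
      lt_top_iff_ne_top.2 fun e => hne (Subgroup.subgroupOf_eq_top.1 e)
    obtain ⟨⟨y, hyS⟩, hyN, hyA⟩ := SetLike.exists_of_lt
      (normalizerCondition_of_isNilpotent _ hlt)
    have hyn : (y : G) ∈ normalizer (F.A : Set G) := CfsgLib.ProdFusion.mem_of_forall_conj_mem fun a ha =>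
      ((mem_normalizer_iff.1 hyN ⟨⟨a, hAC ha⟩, hS (mem_subgroupOf.2 ha)⟩).1 ha :)
    refine hyA (hAmax ((F.A ⊔ zpowers (y : G))) ?_ le_sup_left
      (sup_le hAC (zpowers_le.2 y.2)) (sup_le le_normalizer (zpowers_le.2 hyn)) (mem_sup_right (mem_zpowers _)) :)
    refine (S.2.map C.subtype).to_le (sup_le (fun a ha => ?_) (zpowers_le.2 ⟨y, hyS, rfl⟩))
    exact ⟨⟨a, hAC ha⟩, hS (mem_subgroupOf.2 ha), rfl⟩
  -- Burnside
  have hcen : normalizer (S : Set C) ≤ centralizer (S : Set C) := by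
    intro x hx
    have hxn : (x : G) ∈ normalizer (F.A : Set G) := CfsgLib.ProdFusion.mem_of_forall_conj_mem fun a ha => by
      have h1 : (⟨a, hAC ha⟩ : C) ∈ (S : Subgroup C) := hSA ▸ mem_subgroupOf.2 ha
      have h2 := (mem_normalizer_iff.1 hx _).1 h1
      rw [hSA] at h2
      exact h2
    have hxV : ∀ v ∈ F.V, (x : G) * v * (x : G)⁻¹ = v := fun v hv => by
      rw [(mem_centralizer_iff.1 (hCd ▸ x.2) v hv).symm, mul_inv_cancel_right]
    refine mem_centralizer_iff.2 fun a ha => ?_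
    have haA : (a : G) ∈ F.A := by
      have : a ∈ F.A.subgroupOf C := hSA ▸ ha
      exact this
    refine Subtype.ext ?_
    show (a : G) * x = x * a
    obtain ⟨m, hm⟩ : ∃ m, m = orderOf (x : G) := ⟨_, rfl⟩
    obtain ⟨k, n, hn, hk⟩ := Nat.exists_eq_pow_mul_and_not_dvd (orderOf_pos (x : G)).ne' 2 (by norm_num)
    have hodd : Odd n := Nat.odd_iff.2 (by omega)
    have hx1 : (x : G) ^ n ∈ F.A := by
      refine hAmax (F.A ⊔ zpowers ((x : G) ^ n)) ?_ le_sup_left
        (sup_le hAC (zpowers_le.2 (pow_mem x.2 n))) (sup_le le_normalizer (zpowers_le.2 (pow_mem hxn n)))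
        (mem_sup_right (mem_zpowers _))
      refine hA2.to_sup_of_normal_left' ?_ (zpowers_le.2 (pow_mem hxn n))
      refine IsPGroup.of_card (n := k) ?_
      rw [Nat.card_zpowers, orderOf_pow_of_dvd (by rintro rfl; exact hn (dvd_zero 2)) ⟨2 ^ k, by rw [hk]; ring⟩, hk,
        Nat.mul_div_cancel _ (Nat.pos_of_ne_zero (by rintro rfl; exact hn (dvd_zero 2)))]
    have hx2 : ∀ b ∈ F.A, (x : G) ^ 2 ^ k * b * ((x : G) ^ 2 ^ k)⁻¹ = b := fun b hb => by
      refine F.odd_fix_A (pow_mem hxn _) (fun v hv => ?_) ?_ hb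
      · have c : Commute (x : G) v := by rw [Commute, SemiconjBy]; exact mul_inv_eq_iff_eq_mul.1 (hxV v hv)
        rw [(c.pow_left _).eq, mul_inv_cancel_right]
      · have hd : orderOf ((x : G) ^ 2 ^ k) ∣ n := by
          rw [orderOf_dvd_iff_pow_eq_one, ← pow_mul, ← hk, pow_orderOf_eq_one]
        exact hodd.of_dvd_nat hd
    have c1 : Commute ((x : G) ^ n) (a : G) := F.comm_A hx1 haA
    have c2 : Commute ((x : G) ^ 2 ^ k) (a : G) := by
      rw [Commute, SemiconjBy]; exact mul_inv_eq_iff_eq_mul.1 (hx2 _ haA)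
    obtain ⟨u, v, huv⟩ : ∃ u v : ℤ, u * (n : ℤ) + v * ((2 ^ k : ℕ) : ℤ) = 1 := by
      have hco : Nat.Coprime n (2 ^ k) := (Nat.coprime_two_right.2 hodd).pow_right k
      exact Nat.isCoprime_iff_coprime.2 hco
    have e : ((x : G) ^ n) ^ u * ((x : G) ^ 2 ^ k) ^ v = (x : G) := by
      rw [← zpow_natCast, ← zpow_natCast (x : G) (2 ^ k), ← zpow_mul, ← zpow_mul, ← zpow_add,
        mul_comm (n : ℤ), mul_comm ((2 ^ k : ℕ) : ℤ), huv, zpow_one]
    rw [← e]
    exact ((c1.zpow_left u).mul_left (c2.zpow_left v)).symm.eq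
  obtain ⟨K, hK⟩ : ∃ K, K = (MonoidHom.transferSylow S hcen).ker := ⟨_, rfl⟩
  have hcompl : Subgroup.IsComplement' K (S : Subgroup C) := hK ▸ MonoidHom.ker_transferSylow_isComplement' S hcen
  have hKodd : ¬ 2 ∣ Nat.card K := hK ▸ MonoidHom.not_dvd_card_ker_transferSylow S hcen
  have hKn : K.Normal := hK ▸ MonoidHom.normal_ker _
  -- the complement lies in `R`
  have hK1 : ∀ k ∈ K, k = 1 := by
    intro k hk
    have hkz : (k : G) * F.z = F.z * k := (mem_centralizer_iff.1 (hCd ▸ k.2) _ F.z_mem_partV).symm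
    have hko : Odd (orderOf (k : G)) := by
      rw [Nat.odd_iff, Subgroup.orderOf_coe]
      by_contra h
      exact hKodd ((Nat.dvd_of_mod_eq_zero (by omega)).trans (Subgroup.orderOf_dvd_natCard _ hk))
    have hkR : (k : G) ∈ normalizer (F.R : Set G) := by
      obtain ⟨o, n, ho, -, hn, e⟩ := hC.factor _ hkz
      rw [hO, mem_bot] at ho
      rw [e, ho, one_mul]; exact hn
    have hRC : ∀ r ∈ F.R, r ∈ normalizer (C : Set G) := fun r hr =>
      CfsgLib.ProdFusion.mem_of_forall_conj_mem fun y hy => by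
        rw [hCd] at hy ⊢
        refine mem_centralizer_iff.2 fun v hv => ?_
        have hv' : r⁻¹ * v * r ∈ F.V := by
          have := (mem_normalizer_iff.1 (inv_mem (F.T_le_normV (F.sub_le _ _ hr))) v).1 hv
          rwa [inv_inv] at this
        have e := mem_centralizer_iff.1 hy _ hv'
        calc v * (r * y * r⁻¹) = r * (r⁻¹ * v * r * y) * r⁻¹ := by group
          _ = r * (y * (r⁻¹ * v * r)) * r⁻¹ := by rw [e]
          _ = _ := by group
    have hcomm : ∀ r ∈ F.R, (k : G) * r * (k : G)⁻¹ * r⁻¹ = 1 := by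
      intro r hr
      obtain ⟨y, hy⟩ : ∃ y, y = (k : G) * r * (k : G)⁻¹ * r⁻¹ := ⟨_, rfl⟩
      have hyR : y ∈ F.R := hy ▸ mul_mem ((mem_normalizer_iff.1 hkR r).1 hr) (inv_mem hr)
      have hyK : ∃ y' ∈ K, (y' : G) = y := by
        have hinv : r * (k : G)⁻¹ * r⁻¹ ∈ C := (mem_normalizer_iff.1 (hRC r hr) _).1 (inv_mem k.2)
        refine ⟨k * ⟨_, hinv⟩, mul_mem hk ?_, by rw [hy, coe_mul]; group⟩
        -- the complement is characteristic
        have hodd' : Odd (orderOf (⟨_, hinv⟩ : C)) := by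
          rw [← Subgroup.orderOf_coe]
          show Odd (orderOf (r * (k : G)⁻¹ * r⁻¹))
          rw [show r * (k : G)⁻¹ * r⁻¹ = MulAut.conj r (k : G)⁻¹ from rfl, MulEquiv.orderOf_eq, orderOf_inv]
          exact hko
        rw [← QuotientGroup.eq_one_iff (N := K)]
        refine orderOf_eq_one_iff.1 (Nat.eq_one_of_dvd_coprimes ?_
          (orderOf_map_dvd (QuotientGroup.mk' K) _) (orderOf_dvd_natCard _))
        rw [← Subgroup.index_eq_card, hcompl.symm.index_eq_card, S.card_eq_multiplicity]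
        exact (Nat.coprime_two_right.2 hodd').pow_right _
      obtain ⟨y', hy'K, hy'⟩ := hyK
      obtain ⟨j, hj⟩ := IsPGroup.iff_orderOf.1 (F.T.2.to_le (F.sub_le _ _ : F.R ≤ _)) ⟨y, hyR⟩
      replace hj : orderOf y = 2 ^ j := (Subgroup.orderOf_coe _).trans hj
      rw [← hy, ← hy']
      have h2 : ¬ 2 ∣ orderOf y' := fun h => hKodd (h.trans (Subgroup.orderOf_dvd_natCard _ hy'K))
      rw [← Subgroup.orderOf_coe, hy', hj] at h2
      rw [hy', ← orderOf_eq_one_iff, hj]
      rcases j with _ | j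
      · rfl
      · exact absurd (dvd_pow_self 2 (by omega)) h2
    obtain ⟨o, r, ho, hr, e⟩ := hC.selfc _ hkz fun r hr => by rw [hcomm r hr]; exact one_mem _
    rw [hO, mem_bot] at ho
    rw [ho, one_mul] at e
    obtain ⟨j, hj⟩ := IsPGroup.iff_orderOf.1 (F.T.2.to_le (F.sub_le _ _ : F.R ≤ _)) ⟨r, hr⟩
    replace hj : orderOf (k : G) = 2 ^ j := by rw [e]; exact (Subgroup.orderOf_coe _).trans hj
    refine Subtype.ext (show (k : G) = 1 from orderOf_eq_one_iff.1 ?_)
    rw [hj] at hko ⊢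
    rcases j with _ | j
    · rfl
    · exact absurd hko (by simp [pow_succ, mul_comm, parity_simps])
  refine le_antisymm (fun x hx => ?_) (hCd ▸ hAC)
  obtain ⟨⟨⟨k, hk⟩, ⟨s, hs⟩⟩, e, -⟩ := hcompl.existsUnique (⟨x, hCd ▸ hx⟩ : C)
  simp only at e
  rw [hK1 k hk, one_mul] at e
  have hsA : (s : G) ∈ F.A := by
    have : s ∈ F.A.subgroupOf C := hSA ▸ hs
    exact this
  rw [e] at hsA
  exact hsA

theorem normV_eq (hC : F.Central) (hO : CfsgLib.ProdFusion.OC (centralizer ({F.z} : Set G)) = ⊥) :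
    normalizer (F.V : Set G) = normalizer (F.A : Set G) := by
  refine le_antisymm (fun g hg => CfsgLib.ProdFusion.mem_of_forall_conj_mem fun a ha => ?_) F.normA_le_normV
  rw [← F.centV_eq hC hO] at ha ⊢
  refine mem_centralizer_iff.2 fun v hv => ?_
  have hv' : g⁻¹ * v * g ∈ F.V := by
    have := (mem_normalizer_iff.1 (inv_mem hg) v).1 hv
    rwa [inv_inv] at this
  have e := mem_centralizer_iff.1 ha _ hv'
  calc v * (g * a * g⁻¹) = g * (g⁻¹ * v * g * a) * g⁻¹ := by group
    _ = g * (a * (g⁻¹ * v * g)) * g⁻¹ := by rw [e]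
    _ = _ := by group

/-- the normalizer of `A` is transitive on the involutions of `V` -/
theorem V_trans (hF : F.Fused) {v : G} (hv : v ∈ F.V) (hv1 : v ≠ 1) :
    ∃ n ∈ normalizer (F.A : Set G), n * F.z * n⁻¹ = v := by
  obtain ⟨a, ha, rfl⟩ := hv
  have := listV_lt ha
  have h := recog_V_facts.2.2.1
  simp only [List.all_eq_true, Bool.and_eq_true, Bool.or_eq_true, Nat.blt_eq] at h
  rcases (h a ha).1.2 with e | e
  · exact absurd (by rw [Nat.eq_of_beq_eq_true e, F.f_zero]) hv1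
  obtain ⟨g, hg⟩ := isConj_iff.1 (hF.conj_z_of_cls (n := a) (by omega) (by
    simp only [kClasses, List.mem_cons]; omega))
  obtain ⟨n, hn, hne⟩ := F.control_A (x := F.z) (g := g) (F.V_le_A F.z_mem_partV)
    (by rw [hg]; exact F.V_le_A ⟨a, ha, rfl⟩)
  exact ⟨n, hn, hne.trans hg⟩

/-- the normalizer of `V` modulo `A` -/
theorem exists_action (hF : F.Fused) (hC : F.Central) (hO : CfsgLib.ProdFusion.OC (centralizer ({F.z} : Set G)) = ⊥) :
    ∃ φ : ↥(normalizer (F.V : Set G)) →* GL (Fin 3) (ZMod 2), Function.Surjective φ ∧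
      φ.ker = F.A.subgroupOf (normalizer (F.V : Set G)) := by
  classical
  haveI : Fact (Nat.Prime 2) := ⟨Nat.prime_two⟩
  obtain ⟨D, hDd⟩ : ∃ D, D = F.V := ⟨_, rfl⟩
  rw [← hDd]
  letI : CommGroup D := { (inferInstance : Group D) with
    mul_comm := fun a b => Subtype.ext (F.comm_A (F.V_le_A (hDd ▸ a.2)) (F.V_le_A (hDd ▸ b.2))) }
  letI : Module (ZMod 2) (Additive D) :=
    AddCommGroup.zmodModule (n := 2) fun x => by
      show Additive.toMul x ^ 2 = 1
      exact Subtype.ext (by simpa [pow_two] using F.V_sq (hDd ▸ (Additive.toMul x).2))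
  haveI : Finite (Additive D) := inferInstanceAs (Finite D)
  have hrank : Module.finrank (ZMod 2) (Additive D) = 3 := by
    have h1 := Module.natCard_eq_pow_finrank (K := ZMod 2) (V := Additive D)
    rw [Nat.card_zmod, show Nat.card (Additive D) = Nat.card D from rfl,
      show Nat.card D = 8 from hDd ▸ F.natCard_V] at h1
    exact (Nat.pow_right_injective (le_refl 2) (show 2 ^ 3 = 2 ^ _ from h1)).symm
  let L : Additive D ≃ₗ[ZMod 2] (Fin 3 → ZMod 2) :=
    LinearEquiv.ofFinrankEq _ _ (by rw [hrank, Module.finrank_pi, Fintype.card_fin])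
  let ext : ↥(normalizer (D : Set G)) →* (Additive D →ₗ[ZMod 2] Additive D) :=
    { toFun := fun g => AddMonoidHom.toZModLinearMap 2 (MonoidHom.toAdditive (D.normalizerMonoidHom g).toMonoidHom)
      map_one' := LinearMap.ext fun x => by simp
      map_mul' := fun a b => LinearMap.ext fun x => by simp }
  let toM : ↥(normalizer (D : Set G)) →* GL (Fin 3) (ZMod 2) :=
    ((LinearMap.toMatrixAlgEquiv'.toMonoidHom).comp ((L.conjRingEquiv.toMonoidHom).comp ext)).toHomUnits
  have hker : ∀ m, toM m = 1 ↔ ∀ d ∈ D, (m : G) * d = d * m := by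
    intro m
    constructor
    · intro hm d hd
      have h1 : ext m = 1 := L.conjRingEquiv.injective (by
        rw [map_one]
        exact LinearMap.toMatrixAlgEquiv'.injective ((congrArg Units.val hm).trans (map_one _).symm))
      have h2 := LinearMap.congr_fun h1 (Additive.ofMul ⟨d, hd⟩)
      exact mul_inv_eq_iff_eq_mul.1 (congrArg (fun t : Additive D => ((Additive.toMul t : D) : G)) h2)
    · intro hm
      have h1 : ext m = 1 := LinearMap.ext fun x => by
        refine congrArg Additive.ofMul (Subtype.ext ?_ : D.normalizerMonoidHom m (Additive.toMul x) = Additive.toMul x)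
        show (m : G) * _ * (m : G)⁻¹ = _
        rw [hm _ (Additive.toMul x).2, mul_inv_cancel_right]
      refine Units.ext ?_
      show LinearMap.toMatrixAlgEquiv' (L.conjRingEquiv (ext m)) = 1
      rw [h1, map_one, map_one]
  obtain ⟨φ, hφ⟩ : ∃ φ, φ = toM := ⟨_, rfl⟩
  replace hker : ∀ m, φ m = 1 ↔ ∀ d ∈ D, (m : G) * d = d * m := hφ ▸ hker
  have hk : φ.ker = F.A.subgroupOf (normalizer (D : Set G)) := by
    ext m
    rw [MonoidHom.mem_ker, hker, mem_subgroupOf, ← F.centV_eq hC hO, mem_centralizer_iff]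
    exact ⟨fun h v hv => (h v (hDd ▸ hv)).symm, fun h v hv => (h v (hDd ▸ hv)).symm⟩
  refine ⟨φ, ?_, hk⟩
  have hAN : F.A ≤ normalizer (D : Set G) := hDd ▸ F.A_le_T.trans F.T_le_normV
  have hk64 : Nat.card φ.ker = 64 := by
    rw [hk, Nat.card_congr (subgroupOfEquivOfLe hAN).toEquiv, F.card_A]
  have hTN : (F.T : Subgroup G) ≤ normalizer (D : Set G) := hDd ▸ F.T_le_normV
  have hcard := Subgroup.index_mul_card φ.ker
  rw [Subgroup.index_ker, hk64] at hcard
  have h512 : 512 ∣ Nat.card ↥(normalizer (D : Set G)) := by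
    rw [← F.card_T]; exact Subgroup.card_dvd_of_le hTN
  -- the orbit of the central involution
  have h7 : 7 ∣ Nat.card ↥(normalizer (D : Set G)) := by
    obtain ⟨zd, hzd⟩ : ∃ zd : D, zd = ⟨F.z, hDd ▸ F.z_mem_partV⟩ := ⟨_, rfl⟩
    letI : MulAction ↥(normalizer (D : Set G)) D := MulAction.compHom D D.normalizerMonoidHom
    have horb : MulAction.orbit ↥(normalizer (D : Set G)) zd = {d | d ≠ 1} := by
      ext d
      constructor
      · rintro ⟨n, rfl⟩ e
        have e' : D.normalizerMonoidHom n zd = 1 := e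
        rw [map_eq_one_iff _ (MulEquiv.injective _), hzd] at e'
        exact F.z_ne (congrArg Subtype.val e')
      · intro hd
        obtain ⟨n, hn, e⟩ := F.V_trans hF (hDd ▸ d.2) (fun e => hd (Subtype.ext e))
        refine ⟨⟨n, hDd ▸ F.normA_le_normV hn⟩, Subtype.ext ?_⟩
        show n * (zd : G) * n⁻¹ = d
        rw [hzd, e]
    have hc := Nat.card_congr (MulAction.orbitEquivQuotientStabilizer ↥(normalizer (D : Set G)) zd)
    rw [horb, ← Subgroup.index_eq_card] at hc
    have h1 : Nat.card ({d : D | d ≠ 1} : Set D) = 7 := by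
      rw [show {d : D | d ≠ 1} = ({1} : Set D)ᶜ from rfl, Nat.card_coe_set_eq, Set.ncard_compl, Set.ncard_singleton,
        show Nat.card D = 8 from hDd ▸ F.natCard_V]
    rw [h1] at hc
    exact hc ▸ Subgroup.index_dvd_card _
  have h56 : 56 ∣ Nat.card φ.range := by
    rw [← hcard] at h512 h7
    have h8 : 8 ∣ Nat.card φ.range := by omega
    have h7' : 7 ∣ Nat.card φ.range := by omega
    omega
  have h168 := Cfsg.Agent.S2553.gl_three_two
  haveI := h168.1
  have hmul := Subgroup.index_mul_card φ.range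
  obtain ⟨j, hj⟩ := h56
  rw [h168.2, hj] at hmul
  refine MonoidHom.range_eq_top.1 (Subgroup.index_eq_one.1 ?_)
  by_contra h1
  have hi : φ.range.index = 3 := by
    have hdvd : φ.range.index ∣ 3 := ⟨j, by linarith⟩
    exact ((Nat.dvd_prime Nat.prime_three).1 hdvd).resolve_left h1
  have hbot : φ.range.normalCore = ⊥ := by
    refine (IsSimpleGroup.eq_bot_or_eq_top_of_normal _ inferInstance).resolve_right fun e => ?_
    have := normalCore_le φ.range
    rw [e, top_le_iff] at this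
    rw [this, index_top] at hi
    omega
  rw [normalCore_eq_ker] at hbot
  have h6 := Subgroup.card_le_card_group (MulAction.toPermHom (GL (Fin 3) (ZMod 2)) (GL (Fin 3) (ZMod 2) ⧸ φ.range)).range
  rw [← Nat.card_congr (MonoidHom.ofInjective ((MonoidHom.ker_eq_bot_iff _).1 hbot)).toEquiv, h168.2,
    Nat.card_perm, show Nat.card (GL (Fin 3) (ZMod 2) ⧸ φ.range) = 3 from hi] at h6
  norm_num [Nat.factorial] at h6

/-- the order of the normalizer of `V` -/
theorem card_normV (hF : F.Fused) (hC : F.Central) (hO : CfsgLib.ProdFusion.OC (centralizer ({F.z} : Set G)) = ⊥) :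
    Nat.card ↥(normalizer (F.V : Set G)) = 10752 := by
  obtain ⟨φ, hs, hk⟩ := F.exists_action hF hC hO
  have h := Subgroup.index_mul_card φ.ker
  rw [Subgroup.index_ker, MonoidHom.range_eq_top.2 hs, card_top, Cfsg.Agent.S2553.gl_three_two.2, hk,
    Nat.card_congr (subgroupOfEquivOfLe (F.A_le_T.trans F.T_le_normV)).toEquiv, F.card_A] at h
  omega

/-- the central involution has seven conjugates under the normalizer of `V` -/
theorem relIndex_Cz (hF : F.Fused) :
    (centralizer ({F.z} : Set G)).relIndex (normalizer (F.V : Set G)) = 7 := by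
  obtain ⟨N, hN⟩ : ∃ N, N = normalizer (F.V : Set G) := ⟨_, rfl⟩
  rw [← hN]
  letI : MulAction ↥N G := MulAction.compHom G (MulAut.conj.comp N.subtype)
  have hstab : MulAction.stabilizer ↥N F.z = (centralizer ({F.z} : Set G)).subgroupOf N := by
    ext n
    rw [MulAction.mem_stabilizer_iff, mem_subgroupOf, mem_centralizer_singleton_iff]
    show (n : G) * F.z * (n : G)⁻¹ = F.z ↔ _
    rw [mul_inv_eq_iff_eq_mul]
  have horb : MulAction.orbit ↥N F.z = {g : G | g ∈ F.V ∧ g ≠ 1} := by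
    ext g
    constructor
    · rintro ⟨n, rfl⟩
      refine ⟨(mem_normalizer_iff.1 (hN ▸ n.2) _).1 F.z_mem_partV, fun e => F.z_ne ?_⟩
      exact conj_eq_one_iff.1 (show (n : G) * F.z * (n : G)⁻¹ = 1 from e)
    · rintro ⟨hg, hg1⟩
      obtain ⟨n, hn, e⟩ := F.V_trans hF hg hg1
      exact ⟨⟨n, hN ▸ F.normA_le_normV hn⟩, e⟩
  have hc := Nat.card_congr (MulAction.orbitEquivQuotientStabilizer ↥N F.z)
  rw [← Subgroup.index_eq_card, hstab, horb] at hc
  rw [relIndex, ← hc]
  have e : {g : G | g ∈ F.V ∧ g ≠ 1} = (F.V : Set G) \ {1} := by ext g; simp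
  rw [e, Nat.card_coe_set_eq, Set.ncard_diff_singleton_of_mem (one_mem F.V), ← Nat.card_coe_set_eq]
  show Nat.card F.V - 1 = 7
  rw [F.natCard_V]

/-- an element of order three fixing `z` and normalising `V` -/
theorem exists_three (hF : F.Fused) (hC : F.Central) (hO : CfsgLib.ProdFusion.OC (centralizer ({F.z} : Set G)) = ⊥) :
    ∃ x ∈ normalizer (F.V : Set G), x * F.z = F.z * x ∧ orderOf x = 3 := by
  haveI : Fact (Nat.Prime 3) := ⟨Nat.prime_three⟩
  obtain ⟨D, hD⟩ : ∃ D, D = normalizer (F.V : Set G) ⊓ centralizer ({F.z} : Set G) := ⟨_, rfl⟩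
  have h3 : 3 ∣ Nat.card D := by
    have hrel := F.relIndex_Cz hF
    have h := Subgroup.relIndex_inf_mul_relIndex (centralizer ({F.z} : Set G)) ⊥ (normalizer (F.V : Set G))
    have h' : Nat.card D * 7 = 10752 := by
      rw [← F.card_normV hF hC hO, ← hrel, hD,
        ← Nat.card_congr (subgroupOfEquivOfLe (inf_le_left : normalizer (F.V : Set G) ⊓ centralizer ({F.z} : Set G) ≤ _)).toEquiv,
        inf_subgroupOf_left, relIndex, mul_comm, index_mul_card]
    omega
  obtain ⟨x, hx⟩ := exists_prime_orderOf_dvd_card' 3 h3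
  obtain ⟨h1, h2⟩ := Subgroup.mem_inf.1 (hD ▸ x.2 : (x : G) ∈ normalizer (F.V : Set G) ⊓ centralizer ({F.z} : Set G))
  exact ⟨x, h1, mem_centralizer_singleton_iff.1 h2, (Subgroup.orderOf_coe x).trans hx⟩

end Frame

end CfsgLib.Spor.HSSylow
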